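import Mathlib

/-!
# S2930, pieces T1 and T1i
-/

set_option autoImplicit false
open Equiv Equiv.Perm MulAction
open scoped Pointwise

namespace Cfsg.Agent.S2930L

/-- T1 (generic): two disjoint invariant non-half sets not covering everything. -/
theorem two_invariant_sets {G : Type*} [Group G] {α : Type*} [Fintype α] [DecidableEq α]
    [MulAction G α]
    (hco : ∀ s : Set α, s.Nonempty → sᶜ.Nonempty → Nat.card α ≠ 2 * s.ncard →
      IsCoatom (stabilizer G s))
    (hst : ∀ (s : Set α) (x z : α), x ∉ s → z ∉ s → ∃ g : G, g • s = s ∧ g • x = z)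
    (R : Subgroup G) (s₁ s₂ : Set α) (h1 : ∀ r ∈ R, r • s₁ = s₁) (h2 : ∀ r ∈ R, r • s₂ = s₂)
    (hne1 : s₁.Nonempty) (hne2 : s₂.Nonempty) (hdisj : Disjoint s₁ s₂)
    (z : α) (hz1 : z ∉ s₁) (hz2 : z ∉ s₂)
    (hc1 : Nat.card α ≠ 2 * s₁.ncard) (hc2 : Nat.card α ≠ 2 * s₂.ncard)
    (M : Subgroup G) (hM : IsCoatom M) (hRM : R ≤ M)
    (huniq : ∀ M' : Subgroup G, IsCoatom M' → R ≤ M' → M' = M) : False := by
  have hS1 : stabilizer G s₁ = M := by
    apply huniq
    · exact hco s₁ hne1 ⟨z, hz1⟩ hc1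
    · intro r hr
      rw [mem_stabilizer_iff]; exact h1 r hr
  have hS2 : stabilizer G s₂ = M := by
    apply huniq
    · exact hco s₂ hne2 ⟨z, hz2⟩ hc2
    · intro r hr
      rw [mem_stabilizer_iff]; exact h2 r hr
  obtain ⟨x, hx2⟩ := hne2
  have hx1 : x ∉ s₁ := fun h => (Set.disjoint_left.mp hdisj h) hx2
  obtain ⟨g, hgs, hgx⟩ := hst s₁ x z hx1 hz1
  have hgM : g ∈ M := by rw [← hS1, mem_stabilizer_iff]; exact hgs
  have hg2 : g • s₂ = s₂ := by
    rw [← hS2] at hgM
    exact mem_stabilizer_iff.mp hgM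
  have : g • x ∈ g • s₂ := Set.smul_mem_smul_set hx2
  rw [hg2, hgx] at this
  exact hz2 this

/-- an even permutation preserving membership in `s` stabilises `s` -/
theorem T1i_smul_set_eq {n : ℕ} (s : Set (Fin n)) (p : Perm (Fin n))
    (hp : p ∈ alternatingGroup (Fin n)) (hs : ∀ y, y ∈ s → p y ∈ s) :
    (⟨p, hp⟩ : ↥(alternatingGroup (Fin n))) • s = s := by
  -- `p` maps the finite set `s` into itself injectively, hence onto
  have himg : p '' s = s := by
    apply Set.eq_of_subset_of_ncard_le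
    · rintro _ ⟨y, hy, rfl⟩; exact hs y hy
    · rw [Set.ncard_image_of_injective s p.injective]
    · exact Set.toFinite s
  ext y
  constructor
  · rintro ⟨w, hw, rfl⟩
    exact hs w hw
  · intro hy
    rw [← himg] at hy
    obtain ⟨w, hw, rfl⟩ := hy
    exact ⟨w, hw, rfl⟩

/-- T1i: set stabilizers in A_n are transitive on the complement. -/
theorem alt_stabilizer_transitive_compl (n : ℕ) (hn : 5 ≤ n) (s : Set (Fin n)) (x z : Fin n)
    (hx : x ∉ s) (hz : z ∉ s) :
    ∃ g : ↥(alternatingGroup (Fin n)), g • s = s ∧ g • x = z := by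
  classical
  by_cases hxz : x = z
  · exact ⟨1, one_smul _ _, by rw [one_smul]; exact hxz⟩
  by_cases hw : ∃ w : Fin n, w ∉ s ∧ w ≠ x ∧ w ≠ z
  · obtain ⟨w, hws, hwx, hwz⟩ := hw
    have hp : swap x z * swap z w ∈ alternatingGroup (Fin n) := by
      rw [Equiv.Perm.mem_alternatingGroup, Perm.sign_mul, Perm.sign_swap hxz,
        Perm.sign_swap (Ne.symm hwz)]
      simp
    refine ⟨⟨swap x z * swap z w, hp⟩, ?_, ?_⟩
    · apply T1i_smul_set_eq
      intro y hy
      have hyx : y ≠ x := fun h => hx (h ▸ hy)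
      have hyz : y ≠ z := fun h => hz (h ▸ hy)
      have hyw : y ≠ w := fun h => hws (h ▸ hy)
      rw [Perm.mul_apply, swap_apply_of_ne_of_ne hyz hyw, swap_apply_of_ne_of_ne hyx hyz]
      exact hy
    · show (swap x z * swap z w) x = z
      rw [Perm.mul_apply, swap_apply_of_ne_of_ne hxz (Ne.symm hwx), swap_apply_left]
  · push Not at hw
    -- the complement of `s` is `{x, z}`; pick two points of `s`
    have hcompl : ∀ w : Fin n, w ∉ s → w = x ∨ w = z := by
      intro w hws
      by_contra h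
      push Not at h
      exact h.2 (hw w hws h.1)
    have hcard : 3 ≤ s.ncard := by
      have h1 : sᶜ ⊆ ({x, z} : Set (Fin n)) := by
        intro w hw'
        rcases hcompl w hw' with h | h
        · left; exact h
        · right; exact h
      have h2 : sᶜ.ncard ≤ 2 := by
        calc sᶜ.ncard ≤ ({x, z} : Set (Fin n)).ncard := Set.ncard_le_ncard h1 (Set.toFinite _)
          _ ≤ 2 := Set.ncard_insert_le _ _ |>.trans (by simp)
      have h3 := Set.ncard_add_ncard_compl s
      rw [Nat.card_eq_fintype_card, Fintype.card_fin] at h3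
      omega
    obtain ⟨u, v, hu, hv, huv⟩ : ∃ u v, u ∈ s ∧ v ∈ s ∧ u ≠ v := by
      have : 1 < s.ncard := by omega
      obtain ⟨u, hu, v, hv, huv⟩ := (Set.one_lt_ncard (Set.toFinite s)).mp this
      exact ⟨u, v, hu, hv, huv⟩
    have hux : u ≠ x := fun h => hx (h ▸ hu)
    have huz : u ≠ z := fun h => hz (h ▸ hu)
    have hvx : v ≠ x := fun h => hx (h ▸ hv)
    have hvz : v ≠ z := fun h => hz (h ▸ hv)
    have hp : swap x z * swap u v ∈ alternatingGroup (Fin n) := by
      rw [Equiv.Perm.mem_alternatingGroup, Perm.sign_mul, Perm.sign_swap hxz, Perm.sign_swap huv]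
      simp
    refine ⟨⟨swap x z * swap u v, hp⟩, ?_, ?_⟩
    · apply T1i_smul_set_eq
      intro y hy
      rw [Perm.mul_apply]
      by_cases hyu : y = u
      · rw [hyu, swap_apply_left, swap_apply_of_ne_of_ne hvx hvz]; exact hv
      by_cases hyv : y = v
      · rw [hyv, swap_apply_right, swap_apply_of_ne_of_ne hux huz]; exact hu
      have hyx : y ≠ x := fun h => hx (h ▸ hy)
      have hyz : y ≠ z := fun h => hz (h ▸ hy)
      rw [swap_apply_of_ne_of_ne hyu hyv, swap_apply_of_ne_of_ne hyx hyz]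
      exact hy
    · show (swap x z * swap u v) x = z
      rw [Perm.mul_apply, swap_apply_of_ne_of_ne (Ne.symm hux) (Ne.symm hvx), swap_apply_left]

end Cfsg.Agent.S2930L
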