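import Mathlib
import Cfsg.Agent.Lib.S2930.T1

/-!
# S2930, piece N12: the case `3 ∤ n`
-/

set_option autoImplicit false
open Equiv Equiv.Perm MulAction
open scoped Pointwise

namespace Cfsg.Agent.S2930L

/-- The orbit of a point under a subgroup `R` is stabilized (as a set) by `R`. -/
theorem N12_smul_orbit {G : Type*} [Group G] {α : Type*} [MulAction G α]
    (R : Subgroup G) (x : α) : ∀ r ∈ R, r • (orbit ↥R x : Set α) = orbit ↥R x := by
  have key : ∀ r ∈ R, ∀ y ∈ orbit ↥R x, r • y ∈ orbit ↥R x := by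
    intro r hr y hy
    exact MulAction.mem_orbit_of_mem_orbit (⟨r, hr⟩ : ↥R) hy
  intro r hr
  ext y
  rw [Set.mem_smul_set_iff_inv_smul_mem]
  constructor
  · intro h
    have := key r hr _ h
    rwa [smul_inv_smul] at this
  · intro h
    exact key r⁻¹ (R.inv_mem hr) y h

/-- N12: the case 3 ∤ n. -/
theorem forward_not_dvd (n : ℕ) (hn : 5 ≤ n) (h3 : ¬ 3 ∣ n)
    (R : Sylow 3 ↥(alternatingGroup (Fin n)))
    (M : Subgroup ↥(alternatingGroup (Fin n))) (hM : IsCoatom M)
    (hRM : (R : Subgroup ↥(alternatingGroup (Fin n))) ≤ M)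
    (huniq : ∀ M' : Subgroup ↥(alternatingGroup (Fin n)), IsCoatom M' →
      (R : Subgroup ↥(alternatingGroup (Fin n))) ≤ M' → M' = M) :
    ∃ a : ℕ, 2 ≤ a ∧ n = 3 ^ a + 1 := by
  classical
  have : Fact (Nat.Prime 3) := ⟨Nat.prime_three⟩
  set G := ↥(alternatingGroup (Fin n)) with hG
  set R' : Subgroup G := (R : Subgroup G) with hR'
  have hR3 : IsPGroup 3 R' := R.isPGroup'
  have hcard : Nat.card (Fin n) = n := by rw [Nat.card_eq_fintype_card, Fintype.card_fin]
  have hco : ∀ s : Set (Fin n), s.Nonempty → sᶜ.Nonempty → Nat.card (Fin n) ≠ 2 * s.ncard →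
      IsCoatom (stabilizer G s) := fun s h0 h1 hs => alternatingGroup.isCoatom_stabilizer h0 h1 hs
  have hst : ∀ (s : Set (Fin n)) (x z : Fin n), x ∉ s → z ∉ s → ∃ g : G, g • s = s ∧ g • x = z :=
    fun s x z hx hz => alt_stabilizer_transitive_compl n hn s x z hx hz
  -- a fixed point of R
  have hnd : ¬ 3 ∣ Nat.card (Fin n) := by rw [hcard]; exact h3
  obtain ⟨a, ha⟩ := hR3.nonempty_fixed_point_of_prime_not_dvd_card (Fin n) hnd
  have hfix : ∀ r ∈ R', r • a = a := fun r hr => ha ⟨r, hr⟩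
  -- a point x ≠ a
  obtain ⟨x, hxa⟩ : ∃ x : Fin n, x ≠ a := by
    have : 1 < Fintype.card (Fin n) := by rw [Fintype.card_fin]; omega
    exact Fintype.exists_ne_of_one_lt_card this a
  -- the orbit of x
  set O : Set (Fin n) := orbit ↥R' x with hO
  have hxO : x ∈ O := MulAction.mem_orbit_self x
  have haO : a ∉ O := by
    intro h
    obtain ⟨r, hr⟩ := h
    have h1 : (r : G) • x = a := hr
    have h2' : (r : G)⁻¹ • a = a := hfix _ (R'.inv_mem r.2)
    have : x = a := by
      calc x = (r : G)⁻¹ • ((r : G) • x) := (inv_smul_smul _ _).symm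
        _ = (r : G)⁻¹ • a := by rw [h1]
        _ = a := h2'
    exact hxa this
  obtain ⟨c, hc⟩ : ∃ c : ℕ, O.ncard = 3 ^ c := by
    obtain ⟨c, hc⟩ := hR3.card_orbit x
    exact ⟨c, by rw [← hc, ← Nat.card_coe_set_eq]⟩
  have hnO : Nat.card (Fin n) ≠ 2 * O.ncard := by
    rw [hcard, hc]
    intro h
    rcases Nat.eq_zero_or_pos c with h0 | h0
    · rw [h0] at h; omega
    · apply h3
      rw [h]
      exact Dvd.dvd.mul_left (dvd_pow_self 3 (by omega)) 2
  have hn1 : Nat.card (Fin n) ≠ 2 * ({a} : Set (Fin n)).ncard := by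
    rw [hcard, Set.ncard_singleton]; omega
  by_cases hz : ∃ z : Fin n, z ∉ O ∧ z ≠ a
  · exfalso
    obtain ⟨z, hzO, hza⟩ := hz
    refine two_invariant_sets hco hst R' ({a} : Set (Fin n)) O ?_ (N12_smul_orbit R' x)
      (Set.singleton_nonempty a) ⟨x, hxO⟩ ?_ z (by simpa using hza) hzO hn1 hnO M hM hRM huniq
    · intro r hr
      rw [Set.smul_set_singleton, hfix r hr]
    · rw [Set.disjoint_singleton_left]; exact haO
  · push Not at hz
    have huniv : insert a O = (Set.univ : Set (Fin n)) := by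
      ext z
      simp only [Set.mem_insert_iff, Set.mem_univ, iff_true]
      by_cases hzO : z ∈ O
      · exact Or.inr hzO
      · exact Or.inl (hz z hzO)
    have h1 : (insert a O).ncard = O.ncard + 1 :=
      Set.ncard_insert_of_notMem haO (Set.toFinite O)
    rw [huniv, Set.ncard_univ, hcard, hc] at h1
    refine ⟨c, ?_, h1⟩
    by_contra hc2
    have : c = 0 ∨ c = 1 := by omega
    rcases this with h | h <;> rw [h] at h1 <;> omega

end Cfsg.Agent.S2930L
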