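import Mathlib

/-! S2930 piece T3A (helper8): explicit elements of the centralizer of a fixed-point-free
element of order 3. -/

set_option autoImplicit false
set_option linter.unusedSectionVars false
open Equiv Equiv.Perm

namespace Cfsg.Agent.S2930L

section T3A
variable {α : Type*} [Fintype α] [DecidableEq α]

theorem T3A_cube (τ : Perm α) (hτ3 : τ ^ 3 = 1) (w : α) : τ (τ (τ w)) = w := by
  have h := congrArg (fun f : Perm α => f w) hτ3
  simpa [pow_succ, Perm.mul_apply] using h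

theorem T3A_sq_ne (τ : Perm α) (hτ3 : τ ^ 3 = 1) (hτ : ∀ x, τ x ≠ x) (w : α) :
    τ (τ w) ≠ w := by
  intro h
  have h3 := T3A_cube τ hτ3 w
  rw [h] at h3
  exact hτ w h3

theorem T3A_of_tt (τ : Perm α) (hτ3 : τ ^ 3 = 1) {a b : α} (h : τ (τ a) = b) : a = τ b := by
  rw [← h, T3A_cube τ hτ3 a]

theorem T3A_of_t (τ : Perm α) (hτ3 : τ ^ 3 = 1) {a b : α} (h : τ a = b) : a = τ (τ b) := by
  rw [← h, T3A_cube τ hτ3 a]

theorem T3A_inv_apply (τ : Perm α) (hτ3 : τ ^ 3 = 1) (w : α) : τ⁻¹ w = τ (τ w) := by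
  rw [Perm.inv_eq_iff_eq, T3A_cube τ hτ3 w]

theorem T3A_inv2_apply (τ : Perm α) (hτ3 : τ ^ 3 = 1) (w : α) : (τ * τ)⁻¹ w = τ w := by
  rw [Perm.inv_eq_iff_eq, Perm.mul_apply, T3A_cube τ hτ3 w]

theorem T3A_pow0 (τ : Perm α) (x : α) : (τ ^ 0) x = x := by simp
theorem T3A_pow1 (τ : Perm α) (x : α) : (τ ^ 1) x = τ x := by simp
theorem T3A_pow2 (τ : Perm α) (x : α) : (τ ^ 2) x = τ (τ x) := by
  rw [sq, Perm.mul_apply]

theorem T3A_cyc_apply_1 {a b c : α} (hab : a ≠ b) (hac : a ≠ c) :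
    (swap a b * swap b c) a = b := by
  rw [Perm.mul_apply, swap_apply_of_ne_of_ne hab hac, swap_apply_left]

theorem T3A_cyc_apply_2 {a b c : α} (hac : a ≠ c) (hbc : b ≠ c) :
    (swap a b * swap b c) b = c := by
  rw [Perm.mul_apply, swap_apply_left, swap_apply_of_ne_of_ne hac.symm hbc.symm]

theorem T3A_cyc_apply_3 {a b c : α} : (swap a b * swap b c) c = a := by
  rw [Perm.mul_apply, swap_apply_right, swap_apply_right]

theorem T3A_cyc_apply_other {a b c w : α} (ha : w ≠ a) (hb : w ≠ b) (hc : w ≠ c) :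
    (swap a b * swap b c) w = w := by
  rw [Perm.mul_apply, swap_apply_of_ne_of_ne hb hc, swap_apply_of_ne_of_ne ha hb]

theorem T3A_cyc_sign {a b c : α} (hab : a ≠ b) (hbc : b ≠ c) :
    Perm.sign (swap a b * swap b c) = 1 := by
  rw [map_mul, Perm.sign_swap hab, Perm.sign_swap hbc]
  rfl

theorem fpf3_single (τ : Perm α) (hτ3 : τ ^ 3 = 1)
    (hτ : ∀ x, τ x ≠ x) (x : α) :
    ∃ g : Perm α, g * τ = τ * g ∧ Perm.sign g = 1 ∧ g x = τ x ∧ g (τ x) = (τ ^ 2) x ∧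
      g ((τ ^ 2) x) = x ∧ ∀ w, (∀ k : ℕ, w ≠ (τ ^ k) x) → g w = w := by
  have hab : x ≠ τ x := (hτ x).symm
  have hbc : τ x ≠ τ (τ x) := (hτ (τ x)).symm
  have hac : x ≠ τ (τ x) := (T3A_sq_ne τ hτ3 hτ x).symm
  have hca : τ (τ (τ x)) = x := T3A_cube τ hτ3 x
  refine ⟨swap x (τ x) * swap (τ x) (τ (τ x)), ?_, T3A_cyc_sign hab hbc,
    T3A_cyc_apply_1 hab hac, ?_, ?_, ?_⟩
  · ext w
    show (swap x (τ x) * swap (τ x) (τ (τ x))) (τ w) =
      τ ((swap x (τ x) * swap (τ x) (τ (τ x))) w)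
    by_cases h1 : w = x
    · rw [h1, T3A_cyc_apply_1 hab hac, T3A_cyc_apply_2 hac hbc]
    by_cases h2 : w = τ x
    · rw [h2, T3A_cyc_apply_2 hac hbc, T3A_cyc_apply_3, hca]
    by_cases h3 : w = τ (τ x)
    · rw [h3, hca, T3A_cyc_apply_1 hab hac, T3A_cyc_apply_3]
    · have e1 : τ w ≠ x := fun h => h3 (T3A_of_t τ hτ3 h)
      have e2 : τ w ≠ τ x := fun h => h1 (τ.injective h)
      have e3 : τ w ≠ τ (τ x) := fun h => h2 (τ.injective h)
      rw [T3A_cyc_apply_other e1 e2 e3, T3A_cyc_apply_other h1 h2 h3]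
  · rw [T3A_pow2]
    exact T3A_cyc_apply_2 hac hbc
  · rw [T3A_pow2]
    exact T3A_cyc_apply_3
  · intro w hw
    have h0 := hw 0
    have h1 := hw 1
    have h2 := hw 2
    rw [T3A_pow0] at h0
    rw [T3A_pow1] at h1
    rw [T3A_pow2] at h2
    exact T3A_cyc_apply_other h0 h1 h2

theorem T3A_conj_fix (c σ : Perm α) (P : α → Prop) (hc : ∀ w, ¬ P w → c w = w) (w : α)
    (hw : ¬ P (σ⁻¹ w)) : (σ * c * σ⁻¹) w = w := by
  rw [Perm.mul_apply, Perm.mul_apply, hc _ hw]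
  simp

theorem T3A_disj (c σ : Perm α) (P : α → Prop) (hc : ∀ w, ¬ P w → c w = w)
    (hP : ∀ w, P w → ¬ P (σ⁻¹ w)) : Perm.Disjoint c (σ * c * σ⁻¹) := by
  intro w
  by_cases hw : P w
  · right
    exact T3A_conj_fix c σ P hc w (hP w hw)
  · left
    exact hc w hw

theorem fpf3_tricycle (τ : Perm α) (hτ3 : τ ^ 3 = 1)
    (hτ : ∀ x, τ x ≠ x) (x y z : α) (hxy : ∀ k : ℕ, y ≠ (τ ^ k) x)
    (hxz : ∀ k : ℕ, z ≠ (τ ^ k) x)
    (hyz : ∀ k : ℕ, z ≠ (τ ^ k) y) :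
    ∃ g : Perm α, g * τ = τ * g ∧ Perm.sign g = 1 ∧ g x = y ∧ g y = z ∧ g z = x ∧
      ∀ w, (∀ k : ℕ, w ≠ (τ ^ k) x) → (∀ k : ℕ, w ≠ (τ ^ k) y) → (∀ k : ℕ, w ≠ (τ ^ k) z) →
        g w = w := by
  -- basic inequalities
  have xy0 := hxy 0
  have xy1 := hxy 1
  have xy2 := hxy 2
  have xz0 := hxz 0
  have xz1 := hxz 1
  have xz2 := hxz 2
  have yz0 := hyz 0
  have yz1 := hyz 1
  have yz2 := hyz 2
  rw [T3A_pow0] at xy0 xz0 yz0
  rw [T3A_pow1] at xy1 xz1 yz1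
  rw [T3A_pow2] at xy2 xz2 yz2
  set P : α → Prop := fun v => v = x ∨ v = y ∨ v = z with hPdef
  set c : Perm α := swap x y * swap y z with hcdef
  have hc : ∀ w, ¬ P w → c w = w := by
    intro w hw
    simp only [hPdef, not_or] at hw
    exact T3A_cyc_apply_other hw.1 hw.2.1 hw.2.2
  have hcx : c x = y := T3A_cyc_apply_1 xy0.symm xz0.symm
  have hcy : c y = z := T3A_cyc_apply_2 xz0.symm yz0.symm
  have hcz : c z = x := T3A_cyc_apply_3
  -- τ s and τ τ s are outside S for s in S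
  have hP1 : ∀ w, P w → ¬ P (τ w) := by
    intro w hw
    simp only [hPdef, not_or]
    rcases hw with rfl | rfl | rfl
    · exact ⟨hτ _, fun h => xy1 h.symm, fun h => xz1 h.symm⟩
    · refine ⟨fun h => xy2 ?_, hτ _, fun h => yz1 h.symm⟩
      exact T3A_of_t τ hτ3 h
    · refine ⟨fun h => xz2 ?_, fun h => yz2 ?_, hτ _⟩
      · exact T3A_of_t τ hτ3 h
      · exact T3A_of_t τ hτ3 h
  have hP2 : ∀ w, P w → ¬ P (τ (τ w)) := by
    intro w hw
    simp only [hPdef, not_or]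
    rcases hw with rfl | rfl | rfl
    · exact ⟨T3A_sq_ne τ hτ3 hτ _, fun h => xy2 h.symm, fun h => xz2 h.symm⟩
    · refine ⟨fun h => xy1 ?_, T3A_sq_ne τ hτ3 hτ _, fun h => yz2 h.symm⟩
      exact T3A_of_tt τ hτ3 h
    · refine ⟨fun h => xz1 ?_, fun h => yz1 ?_, T3A_sq_ne τ hτ3 hτ _⟩
      · exact T3A_of_tt τ hτ3 h
      · exact T3A_of_tt τ hτ3 h
  have hQ1 : ∀ w, P w → ¬ P (τ⁻¹ w) := by
    intro w hw
    rw [T3A_inv_apply τ hτ3]
    exact hP2 w hw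
  have hQ2 : ∀ w, P w → ¬ P ((τ * τ)⁻¹ w) := by
    intro w hw
    rw [T3A_inv2_apply τ hτ3]
    exact hP1 w hw
  set c1 : Perm α := τ * c * τ⁻¹ with hc1def
  set c2 : Perm α := (τ * τ) * c * (τ * τ)⁻¹ with hc2def
  have hd1 : Perm.Disjoint c c1 := T3A_disj c τ P hc hQ1
  have hd2 : Perm.Disjoint c c2 := T3A_disj c (τ * τ) P hc hQ2
  have hcomm1 : c * c1 = c1 * c := hd1.commute.eq
  have hcomm2 : c * c2 = c2 * c := hd2.commute.eq
  have hτττ : τ * τ * τ = 1 := by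
    rw [← hτ3, pow_succ, pow_succ, pow_one]
  have e1 : τ * c1 * τ⁻¹ = c2 := by
    rw [hc1def, hc2def]
    group
  have e2 : τ * c2 * τ⁻¹ = c := by
    have : τ * c2 * τ⁻¹ = (τ * τ * τ) * c * (τ * τ * τ)⁻¹ := by
      rw [hc2def]
      group
    rw [this, hτττ]
    simp
  have hconj : τ * (c * c1 * c2) * τ⁻¹ = c * c1 * c2 := by
    have h1 : τ * (c * c1 * c2) * τ⁻¹ = (τ * c * τ⁻¹) * (τ * c1 * τ⁻¹) * (τ * c2 * τ⁻¹) := by
      group
    rw [h1, e1, e2, ← hc1def]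
    -- c1 * c2 * c = c * c1 * c2
    rw [mul_assoc c1 c2 c, ← hcomm2, ← mul_assoc c1 c c2, ← hcomm1]
  refine ⟨c * c1 * c2, ?_, ?_, ?_, ?_, ?_, ?_⟩
  · have := hconj
    rw [mul_inv_eq_iff_eq_mul] at this
    exact this.symm
  · have hs : Perm.sign c = 1 := T3A_cyc_sign xy0.symm yz0.symm
    rw [map_mul, map_mul, hc1def, hc2def]
    simp only [map_mul, map_inv, hs]
    simp
  · have h2 : c2 x = x := T3A_conj_fix c (τ * τ) P hc x (hQ2 x (Or.inl rfl))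
    have h1 : c1 x = x := T3A_conj_fix c τ P hc x (hQ1 x (Or.inl rfl))
    rw [Perm.mul_apply, Perm.mul_apply, h2, h1, hcx]
  · have h2 : c2 y = y := T3A_conj_fix c (τ * τ) P hc y (hQ2 y (Or.inr (Or.inl rfl)))
    have h1 : c1 y = y := T3A_conj_fix c τ P hc y (hQ1 y (Or.inr (Or.inl rfl)))
    rw [Perm.mul_apply, Perm.mul_apply, h2, h1, hcy]
  · have h2 : c2 z = z := T3A_conj_fix c (τ * τ) P hc z (hQ2 z (Or.inr (Or.inr rfl)))
    have h1 : c1 z = z := T3A_conj_fix c τ P hc z (hQ1 z (Or.inr (Or.inr rfl)))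
    rw [Perm.mul_apply, Perm.mul_apply, h2, h1, hcz]
  · intro w hwx hwy hwz
    have wx0 := hwx 0
    have wx1 := hwx 1
    have wx2 := hwx 2
    have wy0 := hwy 0
    have wy1 := hwy 1
    have wy2 := hwy 2
    have wz0 := hwz 0
    have wz1 := hwz 1
    have wz2 := hwz 2
    rw [T3A_pow0] at wx0 wy0 wz0
    rw [T3A_pow1] at wx1 wy1 wz1
    rw [T3A_pow2] at wx2 wy2 wz2
    have n0 : ¬ P w := by
      simp only [hPdef, not_or]
      exact ⟨wx0, wy0, wz0⟩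
    have n1 : ¬ P (τ⁻¹ w) := by
      rw [T3A_inv_apply τ hτ3]
      simp only [hPdef, not_or]
      exact ⟨fun h => wx1 (T3A_of_tt τ hτ3 h), fun h => wy1 (T3A_of_tt τ hτ3 h),
        fun h => wz1 (T3A_of_tt τ hτ3 h)⟩
    have n2 : ¬ P ((τ * τ)⁻¹ w) := by
      rw [T3A_inv2_apply τ hτ3]
      simp only [hPdef, not_or]
      exact ⟨fun h => wx2 (T3A_of_t τ hτ3 h), fun h => wy2 (T3A_of_t τ hτ3 h),
        fun h => wz2 (T3A_of_t τ hτ3 h)⟩
    have h2 : c2 w = w := T3A_conj_fix c (τ * τ) P hc w n2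
    have h1 : c1 w = w := T3A_conj_fix c τ P hc w n1
    rw [Perm.mul_apply, Perm.mul_apply, h2, h1, hc w n0]

end T3A

end Cfsg.Agent.S2930L
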