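import Mathlib
import Cfsg.Agent.Lib.S2930.T3A

/-! S2930 piece T3B (helper8): the centralizer of a fixed-point-free element of order 3 in the
alternating group is transitive and proper. -/

set_option autoImplicit false
set_option linter.unusedSectionVars false
open Equiv Equiv.Perm

namespace Cfsg.Agent.S2930L

section T3B
variable {α : Type*} [Fintype α] [DecidableEq α]

theorem T3B_pow_cases (τ : Perm α) (hτ3 : τ ^ 3 = 1) (x : α) (k : ℕ) :
    (τ ^ k) x = x ∨ (τ ^ k) x = τ x ∨ (τ ^ k) x = τ (τ x) := by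
  induction k with
  | zero => left; simp
  | succ k ih =>
    rw [pow_succ', Perm.mul_apply]
    rcases ih with h | h | h
    · right; left; rw [h]
    · right; right; rw [h]
    · left; rw [h, T3A_cube τ hτ3 x]

theorem T3B_sign (τ : Perm α) (hτ3 : τ ^ 3 = 1) : Perm.sign τ = 1 := by
  have h : Perm.sign τ ^ 3 = 1 := by rw [← map_pow, hτ3, map_one]
  rcases Int.units_eq_one_or (Perm.sign τ) with h1 | h1
  · exact h1
  · rw [h1] at h
    exact absurd h (by decide)

theorem T3B_exists_notMem (S : Finset α) (n : ℕ) (hS : S.card ≤ n) (hn : n < Fintype.card α) :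
    ∃ z, z ∉ S := by
  by_contra h
  push Not at h
  have h1 : S = Finset.univ := Finset.eq_univ_iff_forall.mpr h
  have h2 := congrArg Finset.card h1
  rw [Finset.card_univ] at h2
  omega

theorem fpf3_centralizer_transitive
    (h9 : 9 ≤ Fintype.card α) (τ : Perm α) (hτ3 : τ ^ 3 = 1) (hτ : ∀ x, τ x ≠ x) (x y : α) :
    ∃ g : Perm α, g * τ = τ * g ∧ Perm.sign g = 1 ∧ g x = y := by
  by_cases hxy : ∃ k : ℕ, y = (τ ^ k) x
  · obtain ⟨k, hk⟩ := hxy
    refine ⟨τ ^ k, ?_, ?_, hk.symm⟩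
    · rw [← pow_succ, ← pow_succ']
    · rw [map_pow, T3B_sign τ hτ3, one_pow]
  · push Not at hxy
    obtain ⟨z, hz⟩ := T3B_exists_notMem
      ({x, τ x, τ (τ x), y, τ y, τ (τ y)} : Finset α) 6 Finset.card_le_six (by omega)
    simp only [Finset.mem_insert, Finset.mem_singleton, not_or] at hz
    obtain ⟨z1, z2, z3, z4, z5, z6⟩ := hz
    have hxz : ∀ k : ℕ, z ≠ (τ ^ k) x := by
      intro k
      rcases T3B_pow_cases τ hτ3 x k with h | h | h <;> rw [h] <;> assumption
    have hyz : ∀ k : ℕ, z ≠ (τ ^ k) y := by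
      intro k
      rcases T3B_pow_cases τ hτ3 y k with h | h | h <;> rw [h] <;> assumption
    obtain ⟨g, hg1, hg2, hg3, -⟩ := fpf3_tricycle τ hτ3 hτ x y z hxy hxz hyz
    exact ⟨g, hg1, hg2, hg3⟩

theorem fpf3_centralizer_ne_top
    (h6 : 6 ≤ Fintype.card α) (τ : Perm α) (hτ3 : τ ^ 3 = 1) (hτ : ∀ x, τ x ≠ x) :
    ∃ g : Perm α, Perm.sign g = 1 ∧ g * τ ≠ τ * g := by
  have hne : Nonempty α := by
    rw [← Fintype.card_pos_iff]
    omega
  obtain ⟨x⟩ := hne
  obtain ⟨y, hy⟩ := T3B_exists_notMem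
    ({x, τ x, τ (τ x)} : Finset α) 3 Finset.card_le_three (by omega)
  simp only [Finset.mem_insert, Finset.mem_singleton, not_or] at hy
  obtain ⟨y1, y2, y3⟩ := hy
  have hab : x ≠ τ x := (hτ x).symm
  refine ⟨swap x (τ x) * swap (τ x) y, T3A_cyc_sign hab (Ne.symm y2), ?_⟩
  intro h
  have h1 := congrArg (fun f : Perm α => f x) h
  simp only [Perm.mul_apply] at h1
  -- g (τ x) = y, τ (g x) = τ (τ x)
  have e1 : (swap x (τ x)) ((swap (τ x) y) (τ x)) = y := by
    rw [swap_apply_left, swap_apply_of_ne_of_ne y1 y2]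
  have e2 : (swap x (τ x)) ((swap (τ x) y) x) = τ x := by
    rw [swap_apply_of_ne_of_ne hab (Ne.symm y1), swap_apply_left]
  rw [e1, e2] at h1
  exact y3 h1

end T3B

end Cfsg.Agent.S2930L
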