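import Mathlib
import Cfsg.Agent.Lib.S2930.T3A

set_option autoImplicit false
open Equiv Equiv.Perm MulAction
open scoped Pointwise

namespace Cfsg.Agent.S2930L

/-- Powers of an element of order dividing 3 applied to a point: only three values. -/
theorem T3Bc_pow_apply {α : Type*} (τ : Perm α) (hτ3 : τ ^ 3 = 1) (x : α) (k : ℕ) :
    (τ ^ k) x = x ∨ (τ ^ k) x = τ x ∨ (τ ^ k) x = (τ ^ 2) x := by
  rw [pow_eq_pow_mod k hτ3]
  have h : k % 3 < 3 := Nat.mod_lt _ (by norm_num)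
  interval_cases (k % 3)
  · left; simp
  · right; left; simp
  · right; right; rfl

theorem fpf3_centralizer_breaks {α : Type*} [Fintype α] [DecidableEq α]
    (τ : Perm α) (hτ3 : τ ^ 3 = 1) (hτ : ∀ x, τ x ≠ x)
    (B : Finset α) (hB6 : 6 ≤ B.card) (hBne : B ≠ Finset.univ) :
    ∃ g : Perm α, g * τ = τ * g ∧ Perm.sign g = 1 ∧ B.image g ≠ B ∧ (B.image g ∩ B).Nonempty := by
  -- a point of `B` off a given `τ`-orbit
  have hoff : ∀ x : α, ∃ y ∈ B, ∀ k : ℕ, y ≠ (τ ^ k) x := by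
    intro x
    have hcard : ({x, τ x, (τ ^ 2) x} : Finset α).card < B.card := by
      have : ({x, τ x, (τ ^ 2) x} : Finset α).card ≤ 3 := Finset.card_le_three
      omega
    obtain ⟨y, hyB, hy⟩ := Finset.exists_mem_notMem_of_card_lt_card hcard
    refine ⟨y, hyB, ?_⟩
    intro k hk
    apply hy
    simp only [Finset.mem_insert, Finset.mem_singleton]
    rcases T3Bc_pow_apply τ hτ3 x k with h | h | h
    · left; rw [hk, h]
    · right; left; rw [hk, h]
    · right; right; rw [hk, h]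
  by_cases hinv : ∀ x ∈ B, τ x ∈ B
  · -- `B` is `τ`-invariant
    have hpow : ∀ x ∈ B, ∀ k : ℕ, (τ ^ k) x ∈ B := by
      intro x hx k
      induction k with
      | zero => simpa using hx
      | succ k ih =>
        rw [pow_succ', Perm.mul_apply]
        exact hinv _ ih
    have hBpos : 0 < B.card := by omega
    obtain ⟨x₁, hx₁⟩ := Finset.card_pos.mp hBpos
    obtain ⟨x₂, hx₂, hx₂off⟩ := hoff x₁
    have hx₃ : ∃ x₃ : α, x₃ ∉ B := by
      by_contra h
      push Not at h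
      exact hBne (Finset.eq_univ_iff_forall.mpr h)
    obtain ⟨x₃, hx₃⟩ := hx₃
    have h13 : ∀ k : ℕ, x₃ ≠ (τ ^ k) x₁ := by
      intro k hk
      exact hx₃ (hk ▸ hpow x₁ hx₁ k)
    have h23 : ∀ k : ℕ, x₃ ≠ (τ ^ k) x₂ := by
      intro k hk
      exact hx₃ (hk ▸ hpow x₂ hx₂ k)
    obtain ⟨g, hg1, hg2, hg3, hg4, hg5, -⟩ := fpf3_tricycle τ hτ3 hτ x₁ x₂ x₃ hx₂off h13 h23
    refine ⟨g, hg1, hg2, ?_, ?_⟩
    · intro h
      apply hx₃
      rw [← h, Finset.mem_image]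
      exact ⟨x₂, hx₂, hg4⟩
    · refine ⟨x₂, ?_⟩
      rw [Finset.mem_inter, Finset.mem_image]
      exact ⟨⟨x₁, hx₁, hg3⟩, hx₂⟩
  · -- some `x ∈ B` with `τ x ∉ B`
    push Not at hinv
    obtain ⟨x, hxB, hτx⟩ := hinv
    obtain ⟨y, hyB, hyoff⟩ := hoff x
    obtain ⟨g, hg1, hg2, hg3, -, -, hg6⟩ := fpf3_single τ hτ3 hτ x
    refine ⟨g, hg1, hg2, ?_, ?_⟩
    · intro h
      apply hτx
      rw [← h, Finset.mem_image]
      exact ⟨x, hxB, hg3⟩
    · refine ⟨y, ?_⟩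
      rw [Finset.mem_inter, Finset.mem_image]
      exact ⟨⟨y, hyB, hg6 y hyoff⟩, hyB⟩

end Cfsg.Agent.S2930L
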