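import Mathlib
import Cfsg.Agent.Lib.S2245.HAlt
import Cfsg.Agent.Lib.S2930.T2
import Cfsg.Agent.Lib.S2930.T3B
import Cfsg.Agent.Lib.S2930.T3Bc

set_option autoImplicit false
open Equiv Equiv.Perm MulAction
open scoped Pointwise

namespace Cfsg.Agent.S2930L

/-- The even permutations commuting with `τ`, as a subgroup of the alternating group. -/
def T4_cent {α : Type*} [Fintype α] [DecidableEq α] (τ : Perm α) :
    Subgroup ↥(alternatingGroup α) where
  carrier := {g | (g : Perm α) * τ = τ * (g : Perm α)}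
  mul_mem' := by
    intro a b ha hb
    change (a : Perm α) * τ = τ * (a : Perm α) at ha
    change (b : Perm α) * τ = τ * (b : Perm α) at hb
    change ((a * b : ↥(alternatingGroup α)) : Perm α) * τ = τ * ((a * b : ↥(alternatingGroup α)) : Perm α)
    rw [Subgroup.coe_mul, mul_assoc, hb, ← mul_assoc, ha, mul_assoc]
  one_mem' := by simp
  inv_mem' := by
    intro a ha
    change (a : Perm α) * τ = τ * (a : Perm α) at ha
    change ((a⁻¹ : ↥(alternatingGroup α)) : Perm α) * τ = τ * ((a⁻¹ : ↥(alternatingGroup α)) : Perm α)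
    rw [Subgroup.coe_inv]
    calc (a : Perm α)⁻¹ * τ = (a : Perm α)⁻¹ * (τ * (a : Perm α)) * (a : Perm α)⁻¹ := by group
      _ = (a : Perm α)⁻¹ * ((a : Perm α) * τ) * (a : Perm α)⁻¹ := by rw [ha]
      _ = τ * (a : Perm α)⁻¹ := by group

theorem T4_mem_cent {α : Type*} [Fintype α] [DecidableEq α] (τ : Perm α)
    (g : ↥(alternatingGroup α)) : g ∈ T4_cent τ ↔ (g : Perm α) * τ = τ * (g : Perm α) := Iff.rfl

theorem forward_intrans3 (n : ℕ) (h9 : 9 ≤ n) (h3 : 3 ∣ n)
    (R : Sylow 3 ↥(alternatingGroup (Fin n)))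
    (s : Set (Fin n)) (hs : s.Nonempty) (hsc : sᶜ.Nonempty)
    (hinv : ∀ r ∈ (R : Subgroup ↥(alternatingGroup (Fin n))), r • s = s)
    (M : Subgroup ↥(alternatingGroup (Fin n))) (hM : IsCoatom M)
    (hRM : (R : Subgroup ↥(alternatingGroup (Fin n))) ≤ M)
    (huniq : ∀ M' : Subgroup ↥(alternatingGroup (Fin n)), IsCoatom M' →
      (R : Subgroup ↥(alternatingGroup (Fin n))) ≤ M' → M' = M) : False := by
  have hcardn : Fintype.card (Fin n) = n := Fintype.card_fin n
  have hNcard : Nat.card (Fin n) = n := by rw [Nat.card_eq_fintype_card, hcardn]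
  -- the fixed-point-free element of order 3
  have hP : IsPGroup 3 ((R : Subgroup ↥(alternatingGroup (Fin n))).map
      (alternatingGroup (Fin n)).subtype) := R.isPGroup'.map _
  obtain ⟨τ, hτ3, hτ, hτc⟩ := exists_fpf3_commute n h3 _ hP
  set H : Subgroup ↥(alternatingGroup (Fin n)) := T4_cent τ with hH
  have hRH : (R : Subgroup ↥(alternatingGroup (Fin n))) ≤ H := by
    intro r hr
    rw [hH, T4_mem_cent]
    exact hτc _ (Subgroup.mem_map_of_mem _ hr)
  -- every proper overgroup of R lies in M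
  have hle : ∀ K : Subgroup ↥(alternatingGroup (Fin n)),
      (R : Subgroup ↥(alternatingGroup (Fin n))) ≤ K → K ≠ ⊤ → K ≤ M := by
    intro K hRK hK
    rcases eq_top_or_exists_le_coatom K with h | ⟨M', hM', hKM'⟩
    · exact absurd h hK
    · have := huniq M' hM' (hRK.trans hKM')
      rw [← this]; exact hKM'
  -- H is proper
  have hHtop : H ≠ ⊤ := by
    obtain ⟨g, hg1, hg2⟩ := fpf3_centralizer_ne_top (by rw [hcardn]; omega) τ hτ3 hτ
    intro htop
    have hgA : g ∈ alternatingGroup (Fin n) := Equiv.Perm.mem_alternatingGroup.mpr hg1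
    have : (⟨g, hgA⟩ : ↥(alternatingGroup (Fin n))) ∈ H := by rw [htop]; exact Subgroup.mem_top _
    rw [hH, T4_mem_cent] at this
    exact hg2 this
  have hHM : H ≤ M := hle H hRH hHtop
  -- H is transitive
  have hHtr : ∀ x y : Fin n, ∃ g ∈ H, g • x = y := by
    intro x y
    obtain ⟨g, hg1, hg2, hg3⟩ := fpf3_centralizer_transitive (by rw [hcardn]; exact h9) τ hτ3 hτ x y
    have hgA : g ∈ alternatingGroup (Fin n) := Equiv.Perm.mem_alternatingGroup.mpr hg2
    refine ⟨⟨g, hgA⟩, ?_, hg3⟩
    rw [hH, T4_mem_cent]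
    exact hg1
  obtain ⟨x, hx⟩ := hs
  obtain ⟨y, hy⟩ := hsc
  obtain ⟨g, hgH, hgxy⟩ := hHtr x y
  have hgstab : g ∉ stabilizer ↥(alternatingGroup (Fin n)) s := by
    intro hg
    rw [mem_stabilizer_iff] at hg
    have : g • x ∈ g • s := Set.smul_mem_smul_set hx
    rw [hg, hgxy] at this
    exact hy this
  have hRstab : (R : Subgroup ↥(alternatingGroup (Fin n))) ≤
      stabilizer ↥(alternatingGroup (Fin n)) s := fun r hr => mem_stabilizer_iff.mpr (hinv r hr)
  have hstabtop : stabilizer ↥(alternatingGroup (Fin n)) s ≠ ⊤ := by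
    intro htop
    apply hgstab
    rw [htop]; exact Subgroup.mem_top _
  have hstabM : stabilizer ↥(alternatingGroup (Fin n)) s ≤ M := hle _ hRstab hstabtop
  by_cases hhalf : Nat.card (Fin n) = 2 * s.ncard
  · -- the half case
    have hsum := Set.ncard_add_ncard_compl s
    have hscn : sᶜ.ncard = s.ncard := by omega
    have hs6 : 6 ≤ s.ncard := by
      rw [hNcard] at hhalf
      obtain ⟨k, hk⟩ := h3
      omega
    have hlt : stabilizer ↥(alternatingGroup (Fin n)) s < M := by
      refine lt_of_le_of_ne hstabM ?_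
      intro heq
      apply hgstab
      rw [heq]; exact hHM hgH
    have hnb : ¬ IsBlock ↥M sᶜ := by
      intro hB
      set B : Finset (Fin n) := (Set.toFinite sᶜ).toFinset with hBdef
      have hBS : (B : Set (Fin n)) = sᶜ := Set.Finite.coe_toFinset _
      have hBc : B.card = sᶜ.ncard := (Set.ncard_eq_toFinset_card sᶜ (Set.toFinite sᶜ)).symm
      have hBne : B ≠ Finset.univ := by
        intro h
        have : (B : Set (Fin n)) = Set.univ := by rw [h]; exact Finset.coe_univ
        rw [hBS] at this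
        have hxc : x ∈ sᶜ := by rw [this]; exact Set.mem_univ x
        exact hxc hx
      obtain ⟨k, hk1, hk2, hk3, hk4⟩ :=
        fpf3_centralizer_breaks τ hτ3 hτ B (by rw [hBc, hscn]; exact hs6) hBne
      have hkA : k ∈ alternatingGroup (Fin n) := Equiv.Perm.mem_alternatingGroup.mpr hk2
      have hkH : (⟨k, hkA⟩ : ↥(alternatingGroup (Fin n))) ∈ H := by
        rw [hH, T4_mem_cent]; exact hk1
      have hkM : (⟨k, hkA⟩ : ↥(alternatingGroup (Fin n))) ∈ M := hHM hkH
      have himg : ((B.image k : Finset (Fin n)) : Set (Fin n)) =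
          (⟨⟨k, hkA⟩, hkM⟩ : ↥M) • (sᶜ : Set (Fin n)) := by
        rw [Finset.coe_image, hBS]
        ext z
        simp only [Set.mem_image, Set.mem_smul_set]
        rfl
      rcases hB.smul_eq_or_disjoint (⟨⟨k, hkA⟩, hkM⟩ : ↥M) with h | h
      · apply hk3
        apply Finset.coe_injective
        rw [himg, h, hBS]
      · obtain ⟨z, hz⟩ := hk4
        rw [Finset.mem_inter] at hz
        have hz1 : z ∈ (⟨⟨k, hkA⟩, hkM⟩ : ↥M) • (sᶜ : Set (Fin n)) := by
          rw [← himg]; exact hz.1
        have hz2 : z ∈ (sᶜ : Set (Fin n)) := by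
          rw [← hBS]; exact hz.2
        exact Set.disjoint_left.mp h hz1 hz2
    have hnt : s.Nontrivial := by
      rw [← Set.one_lt_ncard_iff_nontrivial]
      omega
    have := Cfsg.Agent.S2245L.alt_eq_top_of_stabilizer_le_of_not_isBlock s hnt
      (by omega) M hlt hnb
    exact hM.1 this
  · -- the generic case
    have hco := alternatingGroup.isCoatom_stabilizer (s := s) ⟨x, hx⟩ ⟨y, hy⟩ hhalf
    have hSM := huniq _ hco hRstab
    apply hgstab
    rw [hSM]
    exact hHM hgH

end Cfsg.Agent.S2930L
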