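import Mathlib

set_option autoImplicit false
open Equiv Equiv.Perm MulAction
open scoped Pointwise

namespace Cfsg.Agent.S2930L

/-- T5 (analogue of S2245 piece G): a transitive 3-group of permutations has a "third":
a set `B` with `3 * |B| = |α|` whose translates are equal to or disjoint from `B`. -/
theorem exists_third_of_transitive_three_group {α : Type*} [Fintype α] [DecidableEq α]
    (P : Subgroup (Perm α)) (hP : IsPGroup 3 P) (h3 : 3 ≤ Fintype.card α)
    (htr : ∀ x y : α, ∃ g ∈ P, g x = y) :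
    ∃ B : Finset α, 3 * B.card = Fintype.card α ∧
      ∀ g ∈ P, B.image g = B ∨ Disjoint (B.image g) B := by
  classical
  have : Fact (Nat.Prime 3) := ⟨Nat.prime_three⟩
  have hne : Nonempty α := by
    rw [← Fintype.card_pos_iff]; omega
  obtain ⟨x⟩ := hne
  have : IsPretransitive ↥P α := ⟨fun a b => by
    obtain ⟨g, hg, hgab⟩ := htr a b
    exact ⟨⟨g, hg⟩, hgab⟩⟩
  set H : Subgroup ↥P := stabilizer ↥P x with hH
  have hidx : H.index = Fintype.card α := by
    rw [hH, MulAction.index_stabilizer_of_transitive, Nat.card_eq_fintype_card]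
  obtain ⟨e, he⟩ := IsPGroup.iff_card.mp hP
  obtain ⟨n', hn'⟩ := IsPGroup.iff_card.mp (hP.to_subgroup H)
  have hmul : Nat.card H * H.index = Nat.card ↥P := H.card_mul_index
  rw [hn', hidx, he] at hmul
  have hlt : n' < e := by
    by_contra hcon
    push Not at hcon
    have h1 : 3 ^ e ≤ 3 ^ n' := Nat.pow_le_pow_right (by norm_num) hcon
    have h3' : 3 ^ n' * 3 ≤ 3 ^ n' * Fintype.card α := Nat.mul_le_mul_left _ h3
    have h4 : 0 < 3 ^ n' := by positivity
    omega
  have hdvd : 3 ^ (e - 1) ∣ Nat.card ↥P := by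
    rw [he]; exact pow_dvd_pow 3 (Nat.sub_le e 1)
  obtain ⟨K, hKcard, hHK⟩ :=
    Sylow.exists_subgroup_card_pow_prime_le 3 hdvd H hn' (by omega : n' ≤ e - 1)
  have hK3 : K.index = 3 := by
    have hm : Nat.card K * K.index = Nat.card ↥P := K.card_mul_index
    rw [hKcard, he] at hm
    have he1 : 3 ^ e = 3 ^ (e - 1) * 3 := by
      rw [← pow_succ]; congr 1; omega
    rw [he1] at hm
    exact Nat.eq_of_mul_eq_mul_left (by positivity) hm
  let B : Finset α := Finset.univ.filter (fun y => ∃ g : ↥P, g ∈ K ∧ (g : Perm α) x = y)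
  have key : ∀ h : ↥P, ((h : Perm α) x ∈ B ↔ h ∈ K) := by
    intro h
    simp only [B, Finset.mem_filter, Finset.mem_univ, true_and]
    constructor
    · rintro ⟨g, hgK, hgx⟩
      have hst : g⁻¹ * h ∈ H := by
        rw [hH, MulAction.mem_stabilizer_iff]
        change ((g⁻¹ * h : ↥P) : Perm α) x = x
        rw [Subgroup.coe_mul, Subgroup.coe_inv, Perm.mul_apply, ← hgx]
        exact Perm.inv_eq_iff_eq.mpr rfl
      have : h = g * (g⁻¹ * h) := by group
      rw [this]
      exact K.mul_mem hgK (hHK hst)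
    · intro hK
      exact ⟨h, hK, rfl⟩
  have himg : ∀ (g h : ↥P), ((h : Perm α) x ∈ B.image (g : Perm α) ↔ g⁻¹ * h ∈ K) := by
    intro g h
    rw [Finset.mem_image]
    constructor
    · rintro ⟨z, hz, hgz⟩
      have hz' : z = ((g⁻¹ * h : ↥P) : Perm α) x := by
        rw [Subgroup.coe_mul, Subgroup.coe_inv, Perm.mul_apply, ← hgz]
        exact (Perm.inv_eq_iff_eq.mpr rfl).symm
      rw [hz'] at hz
      exact (key _).mp hz
    · intro hk
      refine ⟨((g⁻¹ * h : ↥P) : Perm α) x, (key _).mpr hk, ?_⟩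
      rw [Subgroup.coe_mul, Subgroup.coe_inv, Perm.mul_apply]
      exact (Equiv.eq_symm_apply (g : Perm α)).mp rfl
  have hsurj : ∀ y : α, ∃ h : ↥P, (h : Perm α) x = y := by
    intro y
    obtain ⟨g, hg, hgy⟩ := htr x y
    exact ⟨⟨g, hg⟩, hgy⟩
  have hin : ∀ g : ↥P, g ∈ K → B.image (g : Perm α) = B := by
    intro g hg
    ext y
    obtain ⟨h, rfl⟩ := hsurj y
    rw [himg, key]
    exact K.mul_mem_cancel_left (K.inv_mem hg)
  have hout : ∀ g : ↥P, g ∉ K → Disjoint (B.image (g : Perm α)) B := by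
    intro g hg
    rw [Finset.disjoint_left]
    intro y hy1 hy2
    obtain ⟨h, rfl⟩ := hsurj y
    rw [himg] at hy1
    rw [key] at hy2
    apply hg
    have h1 : g⁻¹ ∈ K := by
      have := K.mul_mem hy1 (K.inv_mem hy2)
      simpa using this
    simpa using K.inv_mem h1
  refine ⟨B, ?_, ?_⟩
  · -- cardinality via orbit-stabilizer for `K`
    have hBorb : (B : Set α) = orbit ↥K x := by
      ext y
      simp only [B, Finset.coe_filter, Finset.mem_univ, true_and, Set.mem_setOf_eq,
        MulAction.mem_orbit_iff]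
      constructor
      · rintro ⟨g, hgK, hgx⟩
        exact ⟨⟨g, hgK⟩, hgx⟩
      · rintro ⟨⟨g, hgK⟩, hgx⟩
        exact ⟨g, hgK, hgx⟩
    have hstab : stabilizer ↥K x = H.subgroupOf K := by
      ext k
      rw [Subgroup.mem_subgroupOf, hH, MulAction.mem_stabilizer_iff, MulAction.mem_stabilizer_iff]
      rfl
    have hcardB : B.card = H.relIndex K := by
      rw [← Set.ncard_coe_finset B, hBorb, ← MulAction.index_stabilizer, hstab]
      rfl
    have hrel : H.relIndex K * K.index = H.index := Subgroup.relIndex_mul_index hHK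
    rw [hK3, hidx, ← hcardB] at hrel
    omega
  · intro g hg
    by_cases hgK : (⟨g, hg⟩ : ↥P) ∈ K
    · left; exact hin ⟨g, hg⟩ hgK
    · right; exact hout ⟨g, hg⟩ hgK

end Cfsg.Agent.S2930L
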