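import Mathlib
import Cfsg.Agent.Lib.S2930.T3A
import Cfsg.Agent.Lib.S2930.T3B

set_option autoImplicit false
open Equiv Equiv.Perm MulAction
open scoped Pointwise

namespace Cfsg.Agent.S2930L

section T6
variable {α : Type*} [Fintype α] [DecidableEq α]

/-- `w` lies in the `τ`-orbit of `x` (for `τ` of order 3). -/
def T6_rel (τ : Perm α) (x w : α) : Prop := w = x ∨ w = τ x ∨ w = τ (τ x)

theorem T6_rel_symm (τ : Perm α) (hτ3 : τ ^ 3 = 1) {x w : α} (h : T6_rel τ x w) :
    T6_rel τ w x := by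
  rcases h with rfl | rfl | rfl
  · left; rfl
  · right; right; exact (T3A_cube τ hτ3 x).symm
  · right; left; exact (T3A_cube τ hτ3 x).symm

theorem T6_rel_trans (τ : Perm α) (hτ3 : τ ^ 3 = 1) {a b c : α} (h1 : T6_rel τ a b)
    (h2 : T6_rel τ b c) : T6_rel τ a c := by
  have hc := T3A_cube τ hτ3
  rcases h1 with rfl | rfl | rfl <;> rcases h2 with rfl | rfl | rfl <;> simp [T6_rel, hc]

theorem T6_pow_rel (τ : Perm α) (hτ3 : τ ^ 3 = 1) (k : ℕ) (x : α) :
    T6_rel τ x ((τ ^ k) x) := by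
  induction k with
  | zero => left; simp
  | succ k ih =>
    have hk : (τ ^ (k + 1)) x = τ ((τ ^ k) x) := by rw [pow_succ', Perm.mul_apply]
    rw [hk]
    rcases ih with h | h | h <;> rw [h]
    · right; left; rfl
    · right; right; rfl
    · left; exact T3A_cube τ hτ3 x

theorem T6_not_pow (τ : Perm α) (hτ3 : τ ^ 3 = 1) {x w : α} (h : ¬ T6_rel τ x w) :
    ∀ k : ℕ, w ≠ (τ ^ k) x := by
  intro k hk
  exact h (hk ▸ T6_pow_rel τ hτ3 k x)

/-- the stabilizer of `a` in the even centralizer of `τ` is transitive off the `τ`-orbit of `a`. -/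
theorem T6_stab (h12 : 12 ≤ Fintype.card α) (τ : Perm α) (hτ3 : τ ^ 3 = 1)
    (hτ : ∀ x, τ x ≠ x) (a b z : α) (hb : ¬ T6_rel τ a b) (hz : ¬ T6_rel τ a z) :
    ∃ g : Perm α, g * τ = τ * g ∧ Perm.sign g = 1 ∧ g a = a ∧ g b = z := by
  have hab : ¬ T6_rel τ b a := fun h => hb (T6_rel_symm τ hτ3 h)
  by_cases hbz : T6_rel τ b z
  · obtain ⟨g, hgτ, hgs, h1, h2, h3, hfix⟩ := fpf3_single τ hτ3 hτ b
    have hga : g a = a := hfix a (T6_not_pow τ hτ3 hab)
    rcases hbz with rfl | rfl | rfl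
    · exact ⟨1, by simp, by simp, rfl, rfl⟩
    · exact ⟨g, hgτ, hgs, hga, h1⟩
    · refine ⟨g * g, ?_, ?_, ?_, ?_⟩
      · rw [mul_assoc, hgτ, ← mul_assoc, hgτ, mul_assoc]
      · simp [hgs]
      · simp [Perm.mul_apply, hga]
      · rw [Perm.mul_apply, h1, h2, T3A_pow2]
  · let L : List α := [a, τ a, τ (τ a), b, τ b, τ (τ b), z, τ z, τ (τ z)]
    have hS : L.toFinset.card ≤ 9 := List.toFinset_card_le L
    obtain ⟨w, -, hw⟩ : ∃ w ∈ (Finset.univ : Finset α), w ∉ L.toFinset := by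
      apply Finset.exists_mem_notMem_of_card_lt_card
      rw [Finset.card_univ]; omega
    have hwa : ¬ T6_rel τ a w := by
      intro h; apply hw; rcases h with rfl | rfl | rfl <;> simp [L]
    have hwb : ¬ T6_rel τ b w := by
      intro h; apply hw; rcases h with rfl | rfl | rfl <;> simp [L]
    have hwz : ¬ T6_rel τ z w := by
      intro h; apply hw; rcases h with rfl | rfl | rfl <;> simp [L]
    obtain ⟨g, hgτ, hgs, h1, h2, h3, hfix⟩ := fpf3_tricycle τ hτ3 hτ b z w
      (T6_not_pow τ hτ3 hbz) (T6_not_pow τ hτ3 hwb) (T6_not_pow τ hτ3 hwz)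
    refine ⟨g, hgτ, hgs, ?_, h1⟩
    apply hfix a
    · exact T6_not_pow τ hτ3 hab
    · exact T6_not_pow τ hτ3 (fun h => hz (T6_rel_symm τ hτ3 h))
    · exact T6_not_pow τ hτ3 (fun h => hwa (T6_rel_symm τ hτ3 h))

/-- T6: a subgroup of A(α) containing C_A(τ) and a 3-cycle whose support is not a τ-orbit
is A(α). -/
theorem eq_top_of_fpf3 (h12 : 12 ≤ Fintype.card α)
    (τ : Perm α) (hτ3 : τ ^ 3 = 1) (hτ : ∀ x, τ x ≠ x)
    (J : Subgroup ↥(alternatingGroup α))
    (hJ : ∀ g : ↥(alternatingGroup α), (g : Perm α) * τ = τ * (g : Perm α) → g ∈ J)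
    (g₀ : ↥(alternatingGroup α)) (hg₀ : g₀ ∈ J) (h3c : (g₀ : Perm α).IsThreeCycle)
    (u : α) (hu : (g₀ : Perm α) u ≠ u) (hτu : (g₀ : Perm α) (τ u) = τ u) : J = ⊤ := by
  classical
  have hc := T3A_cube τ hτ3
  have lift : ∀ g : Perm α, g * τ = τ * g → Perm.sign g = 1 →
      ∃ j : ↥J, ∀ a : α, j • a = g a := by
    intro g hg hs
    exact ⟨⟨⟨g, Perm.mem_alternatingGroup.mpr hs⟩, hJ _ hg⟩, fun a => rfl⟩
  have htrans : IsPretransitive ↥J α := ⟨fun x y => by
    obtain ⟨g, hg, hs, hxy⟩ := fpf3_centralizer_transitive (by omega) τ hτ3 hτ x y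
    obtain ⟨j, hj⟩ := lift g hg hs
    exact ⟨j, by rw [hj, hxy]⟩⟩
  have hτs : Perm.sign τ = 1 := by
    have h1 : (Perm.sign τ) ^ 3 = 1 := by rw [← map_pow, hτ3, map_one]
    rcases Int.units_eq_one_or (Perm.sign τ) with h | h
    · exact h
    · rw [h] at h1; exact absurd h1 (by decide)
  obtain ⟨jτ, hjτ⟩ := lift τ rfl hτs
  have hprim : IsPreprimitive ↥J α := by
    apply IsPreprimitive.of_isTrivialBlock_base u
    intro Δ huΔ hΔ
    have hmove : ∀ (j : ↥J) (a : α), a ∈ Δ → j • a ∈ Δ → ∀ y ∈ Δ, j • y ∈ Δ := by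
      intro j a ha hja y hy
      have := hΔ.smul_eq_of_mem ha hja
      rw [← this]
      exact Set.smul_mem_smul_set hy
    have hL : ∀ a b z : α, a ∈ Δ → b ∈ Δ → ¬ T6_rel τ a b → ¬ T6_rel τ a z → z ∈ Δ := by
      intro a b z ha hb hab haz
      obtain ⟨g, hg, hs, hga, hgb⟩ := T6_stab h12 τ hτ3 hτ a b z hab haz
      obtain ⟨j, hj⟩ := lift g hg hs
      have := hmove j a ha (by rw [hj, hga]; exact ha) b hb
      rwa [hj, hgb] at this
    by_cases hA : ∃ y ∈ Δ, ¬ T6_rel τ u y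
    · right
      obtain ⟨y, hy, huy⟩ := hA
      have hyu : ¬ T6_rel τ y u := fun h => huy (T6_rel_symm τ hτ3 h)
      rw [Set.eq_univ_iff_forall]
      intro z
      by_cases hz : T6_rel τ u z
      · apply hL y u z hy huΔ hyu
        intro hyz
        exact huy (T6_rel_symm τ hτ3 (T6_rel_trans τ hτ3 hyz (T6_rel_symm τ hτ3 hz)))
      · exact hL u y z huΔ hy huy hz
    · push Not at hA
      by_cases hsub : Δ.Subsingleton
      · left; exact hsub
      · exfalso
        rw [Set.not_subsingleton_iff] at hsub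
        obtain ⟨y, hy, hyu⟩ : ∃ y ∈ Δ, y ≠ u := by
          obtain ⟨p, hp, q, hq, hpq⟩ := hsub
          by_cases hpu : p = u
          · exact ⟨q, hq, fun h => hpq (hpu.trans h.symm)⟩
          · exact ⟨p, hp, hpu⟩
        have h1 : τ u ∈ Δ ∧ τ (τ u) ∈ Δ := by
          rcases hA y hy with h | h | h
          · exact absurd h hyu
          · have hτu' : τ u ∈ Δ := h ▸ hy
            refine ⟨hτu', ?_⟩
            have := hmove jτ u huΔ (by rw [hjτ]; exact hτu') (τ u) hτu'
            rwa [hjτ] at this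
          · have hττu : τ (τ u) ∈ Δ := h ▸ hy
            refine ⟨?_, hττu⟩
            have := hmove (jτ * jτ) u huΔ (by rw [mul_smul, hjτ, hjτ]; exact hττu)
              (τ (τ u)) hττu
            rw [mul_smul, hjτ, hjτ, hc] at this
            exact this
        let j₀ : ↥J := ⟨g₀, hg₀⟩
        have hj₀ : ∀ a : α, j₀ • a = (g₀ : Perm α) a := fun a => rfl
        have hg₀Δ : ∀ y ∈ Δ, (g₀ : Perm α) y ∈ Δ := by
          intro y hy
          have := hmove j₀ (τ u) h1.1 (by rw [hj₀, hτu]; exact h1.1) y hy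
          rwa [hj₀] at this
        have hvΔ : (g₀ : Perm α) u ∈ Δ := hg₀Δ u huΔ
        have hvτ : (g₀ : Perm α) u ≠ τ u := by
          intro h
          have h' : (g₀ : Perm α) u = (g₀ : Perm α) (τ u) := by rw [hτu, ← h]
          exact hτ u ((g₀ : Perm α).injective h').symm
        have hgvΔ : (g₀ : Perm α) ((g₀ : Perm α) u) ∈ Δ := hg₀Δ _ hvΔ
        have hgv_ne_τ : (g₀ : Perm α) ((g₀ : Perm α) u) ≠ τ u := by
          intro h
          have h' : (g₀ : Perm α) ((g₀ : Perm α) u) = (g₀ : Perm α) (τ u) := by rw [hτu, h]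
          exact hvτ ((g₀ : Perm α).injective h')
        have hgv_ne_v : (g₀ : Perm α) ((g₀ : Perm α) u) ≠ (g₀ : Perm α) u := by
          intro h
          exact hu ((g₀ : Perm α).injective h)
        have hv : (g₀ : Perm α) u = τ (τ u) := by
          rcases hA _ hvΔ with h | h | h
          · exact absurd h hu
          · exact absurd h hvτ
          · exact h
        have hgv : (g₀ : Perm α) ((g₀ : Perm α) u) = u := by
          rcases hA _ hgvΔ with h | h | h
          · exact h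
          · exact absurd h hgv_ne_τ
          · exact absurd (h.trans hv.symm) hgv_ne_v
        have h3 : ((g₀ : Perm α) ^ 3) u = u := by
          rw [← h3c.orderOf, pow_orderOf_eq_one]; rfl
        have h3' : ((g₀ : Perm α) ^ 3) u =
            (g₀ : Perm α) ((g₀ : Perm α) ((g₀ : Perm α) u)) := by
          simp [pow_succ, Perm.mul_apply]
        rw [h3', hgv] at h3
        exact hu h3
  -- Jordan
  rw [eq_top_iff, ← Subgroup.map_subtype_le_map_subtype,
    ← MonoidHom.range_eq_map, Subgroup.range_subtype]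
  have hmem : (g₀ : Perm α) ∈ J.map (alternatingGroup α).subtype := ⟨g₀, hg₀, rfl⟩
  apply alternatingGroup_le_of_isPreprimitive_of_isThreeCycle_mem _ h3c hmem
  let φ := (alternatingGroup α).subtype.subgroupMap J
  let f : α →ₑ[φ] α := {
    toFun := id
    map_smul' _ _ := rfl }
  rwa [← isPreprimitive_congr (f := f) ((alternatingGroup α).subtype.subgroupMap_surjective J)
    Function.bijective_id]

end T6

end Cfsg.Agent.S2930L
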