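import Mathlib
import Cfsg.Agent.Lib.S2930.T2

set_option autoImplicit false
open Equiv Equiv.Perm MulAction
open scoped Pointwise

namespace Cfsg.Agent.S2930L

/-- a permutation that preserves membership in `S` pointwise stabilises `S` -/
theorem T8_smul_set_eq {n : ℕ} (g : ↥(alternatingGroup (Fin n))) (S : Set (Fin n))
    (h : ∀ v, v ∈ S ↔ (g : Perm (Fin n)) v ∈ S) : g • S = S := by
  ext v
  rw [Set.mem_smul_set_iff_inv_smul_mem]
  have h1 := h (g⁻¹ • v)
  have h2 : (g : Perm (Fin n)) (g⁻¹ • v) = v := by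
    show (g : Perm (Fin n)) ((g⁻¹ : ↥(alternatingGroup (Fin n))) • v) = v
    have : (g⁻¹ : ↥(alternatingGroup (Fin n))) • v = ((g : Perm (Fin n)))⁻¹ v := rfl
    rw [this]
    simp
  rw [h2] at h1
  exact h1

/-- T8 with the three imported pieces (T3B `fpf3_centralizer_ne_top`, T5, T6) as hypotheses. -/
theorem T8_forward_pow3_aux (n a : ℕ) (ha : 3 ≤ a) (hn : n = 3 ^ a)
    (hne : ∀ τ : Perm (Fin n), τ ^ 3 = 1 → (∀ x, τ x ≠ x) →
      ∃ g : Perm (Fin n), Perm.sign g = 1 ∧ g * τ ≠ τ * g)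
    (h5 : ∀ P : Subgroup (Perm (Fin n)), IsPGroup 3 P → (∀ x y : Fin n, ∃ g ∈ P, g x = y) →
      ∃ B : Finset (Fin n), 3 * B.card = Fintype.card (Fin n) ∧
        ∀ g ∈ P, B.image g = B ∨ Disjoint (B.image g) B)
    (h6 : ∀ τ : Perm (Fin n), τ ^ 3 = 1 → (∀ x, τ x ≠ x) →
      ∀ J : Subgroup ↥(alternatingGroup (Fin n)),
      (∀ g : ↥(alternatingGroup (Fin n)), (g : Perm (Fin n)) * τ = τ * (g : Perm (Fin n)) → g ∈ J) →
      ∀ g₀ : ↥(alternatingGroup (Fin n)), g₀ ∈ J → (g₀ : Perm (Fin n)).IsThreeCycle →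
      ∀ u : Fin n, (g₀ : Perm (Fin n)) u ≠ u → (g₀ : Perm (Fin n)) (τ u) = τ u → J = ⊤)
    (R : Sylow 3 ↥(alternatingGroup (Fin n)))
    (htr : ∀ x y : Fin n, ∃ r ∈ (R : Subgroup ↥(alternatingGroup (Fin n))), r • x = y)
    (M : Subgroup ↥(alternatingGroup (Fin n))) (hM : IsCoatom M)
    (_hRM : (R : Subgroup ↥(alternatingGroup (Fin n))) ≤ M)
    (huniq : ∀ M' : Subgroup ↥(alternatingGroup (Fin n)), IsCoatom M' →
      (R : Subgroup ↥(alternatingGroup (Fin n))) ≤ M' → M' = M) : False := by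
  classical
  have hn27 : 27 ≤ n := by
    rw [hn]
    calc 27 = 3 ^ 3 := by norm_num
      _ ≤ 3 ^ a := Nat.pow_le_pow_right (by norm_num) ha
  have hcard : Fintype.card (Fin n) = n := Fintype.card_fin n
  have h3n : 3 ∣ n := by
    rw [hn]
    exact dvd_pow_self 3 (by omega)
  -- the image of R in the symmetric group
  set P : Subgroup (Perm (Fin n)) :=
    (R : Subgroup ↥(alternatingGroup (Fin n))).map (alternatingGroup (Fin n)).subtype with hPdef
  have hP : IsPGroup 3 P := R.isPGroup'.map _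
  have hmemP : ∀ r : ↥(alternatingGroup (Fin n)),
      r ∈ (R : Subgroup ↥(alternatingGroup (Fin n))) → (r : Perm (Fin n)) ∈ P :=
    fun r hr => ⟨r, hr, rfl⟩
  obtain ⟨τ, hτ3, hτfpf, hτc⟩ := exists_fpf3_commute n h3n P hP
  -- every proper subgroup containing R lies in M
  have key : ∀ K : Subgroup ↥(alternatingGroup (Fin n)),
      (R : Subgroup ↥(alternatingGroup (Fin n))) ≤ K → K ≠ ⊤ → K ≤ M := by
    intro K hRK hK
    obtain ⟨M', hM', hKM'⟩ := (eq_top_or_exists_le_coatom K).resolve_left hK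
    have := huniq M' hM' (hRK.trans hKM')
    exact this ▸ hKM'
  -- the centralizer of τ lies in M
  have hHM : ∀ g : ↥(alternatingGroup (Fin n)),
      (g : Perm (Fin n)) * τ = τ * (g : Perm (Fin n)) → g ∈ M := by
    set H : Subgroup ↥(alternatingGroup (Fin n)) :=
      (Subgroup.centralizer {τ}).comap (alternatingGroup (Fin n)).subtype with hH
    have hmemH : ∀ g : ↥(alternatingGroup (Fin n)),
        g ∈ H ↔ (g : Perm (Fin n)) * τ = τ * (g : Perm (Fin n)) := by
      intro g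
      rw [hH, Subgroup.mem_comap, Subgroup.mem_centralizer_iff]
      constructor
      · intro h; exact (h τ rfl).symm
      · intro h t ht
        rw [Set.mem_singleton_iff] at ht
        subst ht
        exact h.symm
    have hRH : (R : Subgroup ↥(alternatingGroup (Fin n))) ≤ H := by
      intro r hr
      rw [hmemH]
      exact hτc _ (hmemP r hr)
    have hHne : H ≠ ⊤ := by
      obtain ⟨g, hgs, hgc⟩ := hne τ hτ3 hτfpf
      intro htop
      have hg : (⟨g, mem_alternatingGroup.mpr hgs⟩ : ↥(alternatingGroup (Fin n))) ∈ H := by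
        rw [htop]; exact Subgroup.mem_top _
      rw [hmemH] at hg
      exact hgc hg
    intro g hg
    exact key H hRH hHne ((hmemH g).mpr hg)
  -- the block B
  obtain ⟨B, hBcard, hB⟩ := h5 P hP
    (by
      intro x y
      obtain ⟨r, hr, hrxy⟩ := htr x y
      exact ⟨(r : Perm (Fin n)), hmemP r hr, hrxy⟩)
  rw [hcard] at hBcard
  have hB9 : 9 ≤ B.card := by omega
  -- points
  obtain ⟨x, hxB⟩ : ∃ x, x ∈ B := by
    apply Finset.card_pos.mp; omega
  have hc1 : 7 ≤ ((B.erase x).erase (τ x)).card := by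
    have h1 : (B.erase x).card = B.card - 1 := Finset.card_erase_of_mem hxB
    have h2 := Finset.pred_card_le_card_erase (s := B.erase x) (a := τ x)
    omega
  obtain ⟨y, hy⟩ : ∃ y, y ∈ (B.erase x).erase (τ x) := by
    apply Finset.card_pos.mp; omega
  obtain ⟨z, hz⟩ : ∃ z, z ∈ ((B.erase x).erase (τ x)).erase y := by
    apply Finset.card_pos.mp
    have h2 := Finset.pred_card_le_card_erase (s := (B.erase x).erase (τ x)) (a := y)
    omega
  obtain ⟨w, hwB⟩ : ∃ w, w ∉ B := by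
    by_contra h
    have h' : ∀ w, w ∈ B := fun w => by_contra fun hw => h ⟨w, hw⟩
    have : B = Finset.univ := Finset.eq_univ_iff_forall.mpr h'
    rw [this, Finset.card_univ, hcard] at hBcard
    omega
  simp only [Finset.mem_erase] at hy hz
  obtain ⟨hyτ, hyx, hyB⟩ := hy
  obtain ⟨hzy, hzτ, hzx, hzB⟩ := hz
  have hwx : w ≠ x := fun h => hwB (h ▸ hxB)
  have hwy : w ≠ y := fun h => hwB (h ▸ hyB)
  -- the block system
  set 𝔅 : Set (Set (Fin n)) :=
    {S | ∃ r ∈ (R : Subgroup ↥(alternatingGroup (Fin n))), S = r • (B : Set (Fin n))} with h𝔅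
  have hBmem : (B : Set (Fin n)) ∈ 𝔅 := ⟨1, Subgroup.one_mem _, (one_smul _ _).symm⟩
  have hdich : ∀ S ∈ 𝔅, S = (B : Set (Fin n)) ∨ Disjoint S (B : Set (Fin n)) := by
    rintro S ⟨r, hr, rfl⟩
    have hcoe : r • (B : Set (Fin n)) = ((B.image (r : Perm (Fin n)) : Finset (Fin n)) : Set (Fin n)) := by
      rw [Finset.coe_image]
      rfl
    rcases hB _ (hmemP r hr) with h | h
    · left; rw [hcoe, h]
    · right; rw [hcoe]; exact_mod_cast h
  set Hb : Subgroup ↥(alternatingGroup (Fin n)) := stabilizer ↥(alternatingGroup (Fin n)) 𝔅 with hHb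
  have hRHb : (R : Subgroup ↥(alternatingGroup (Fin n))) ≤ Hb := by
    intro r₀ hr₀
    rw [hHb, mem_stabilizer_iff]
    ext S
    rw [Set.mem_smul_set]
    constructor
    · rintro ⟨S', ⟨r, hr, rfl⟩, rfl⟩
      exact ⟨r₀ * r, Subgroup.mul_mem _ hr₀ hr, (mul_smul _ _ _).symm⟩
    · rintro ⟨r, hr, rfl⟩
      refine ⟨(r₀⁻¹ * r) • (B : Set (Fin n)),
        ⟨r₀⁻¹ * r, Subgroup.mul_mem _ (Subgroup.inv_mem _ hr₀) hr, rfl⟩, ?_⟩
      rw [← mul_smul, mul_inv_cancel_left]
  -- a 3-cycle not preserving the block system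
  have hHbne : Hb ≠ ⊤ := by
    intro htop
    have h3c : (swap x w * swap x y).IsThreeCycle :=
      isThreeCycle_swap_mul_swap_same hwx.symm hyx.symm hwy
    set g : ↥(alternatingGroup (Fin n)) := ⟨swap x w * swap x y, h3c.mem_alternatingGroup⟩ with hg
    have hgx : (g : Perm (Fin n)) x = y := by
      show (swap x w * swap x y) x = y
      rw [Perm.mul_apply, swap_apply_left, swap_apply_of_ne_of_ne hyx hwy.symm]
    have hgy : (g : Perm (Fin n)) y = w := by
      show (swap x w * swap x y) y = w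
      rw [Perm.mul_apply, swap_apply_right, swap_apply_left]
    have hgHb : g ∈ Hb := by rw [htop]; exact Subgroup.mem_top _
    rw [hHb, mem_stabilizer_iff] at hgHb
    have hgB : g • (B : Set (Fin n)) ∈ 𝔅 := by
      have : g • (B : Set (Fin n)) ∈ g • 𝔅 := Set.smul_mem_smul_set hBmem
      rwa [hgHb] at this
    have hyin : y ∈ g • (B : Set (Fin n)) := ⟨x, hxB, hgx⟩
    have hwin : w ∈ g • (B : Set (Fin n)) := ⟨y, hyB, hgy⟩
    rcases hdich _ hgB with h | h
    · rw [h] at hwin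
      exact hwB hwin
    · exact (Set.disjoint_left.mp h hyin) hyB
  have hHbM : Hb ≤ M := key Hb hRHb hHbne
  -- the 3-cycle g₀ inside the block B
  have h3c : (swap x z * swap x y).IsThreeCycle :=
    isThreeCycle_swap_mul_swap_same hzx.symm hyx.symm hzy
  set g₀ : ↥(alternatingGroup (Fin n)) := ⟨swap x z * swap x y, h3c.mem_alternatingGroup⟩ with hg₀
  have hg₀x : (g₀ : Perm (Fin n)) x = y := by
    show (swap x z * swap x y) x = y
    rw [Perm.mul_apply, swap_apply_left, swap_apply_of_ne_of_ne hyx hzy.symm]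
  have hg₀y : (g₀ : Perm (Fin n)) y = z := by
    show (swap x z * swap x y) y = z
    rw [Perm.mul_apply, swap_apply_right, swap_apply_left]
  have hg₀z : (g₀ : Perm (Fin n)) z = x := by
    show (swap x z * swap x y) z = x
    rw [Perm.mul_apply, swap_apply_of_ne_of_ne hzx hzy, swap_apply_right]
  have hg₀o : ∀ v, v ≠ x → v ≠ y → v ≠ z → (g₀ : Perm (Fin n)) v = v := by
    intro v hvx hvy hvz
    show (swap x z * swap x y) v = v
    rw [Perm.mul_apply, swap_apply_of_ne_of_ne hvx hvy, swap_apply_of_ne_of_ne hvx hvz]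
  have hg₀B : ∀ v, (v ∈ B ∧ (g₀ : Perm (Fin n)) v ∈ B) ∨ (g₀ : Perm (Fin n)) v = v := by
    intro v
    by_cases hvx : v = x
    · left; rw [hvx, hg₀x]; exact ⟨hxB, hyB⟩
    by_cases hvy : v = y
    · left; rw [hvy, hg₀y]; exact ⟨hyB, hzB⟩
    by_cases hvz : v = z
    · left; rw [hvz, hg₀z]; exact ⟨hzB, hxB⟩
    right; exact hg₀o v hvx hvy hvz
  have hg₀Hb : g₀ ∈ Hb := by
    rw [hHb, mem_stabilizer_iff]
    have hfix : ∀ S ∈ 𝔅, g₀ • S = S := by
      intro S hS
      apply T8_smul_set_eq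
      intro v
      rcases hg₀B v with ⟨h1, h2⟩ | h
      · rcases hdich S hS with h | h
        · rw [h]
          exact ⟨fun _ => h2, fun _ => h1⟩
        · constructor
          · intro hv; exact absurd h1 (Set.disjoint_left.mp h hv)
          · intro hv; exact absurd h2 (Set.disjoint_left.mp h hv)
      · rw [h]
    ext S
    rw [Set.mem_smul_set]
    constructor
    · rintro ⟨S', hS', rfl⟩
      rw [hfix S' hS']; exact hS'
    · intro hS
      exact ⟨S, hS, hfix S hS⟩
  have hg₀M : g₀ ∈ M := hHbM hg₀Hb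
  have hMtop : M = ⊤ := by
    refine h6 τ hτ3 hτfpf M hHM g₀ hg₀M h3c x ?_ ?_
    · rw [hg₀x]; exact hyx
    · exact hg₀o (τ x) (hτfpf x) (Ne.symm hyτ) (Ne.symm hzτ)
  exact hM.1 hMtop

end Cfsg.Agent.S2930L
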