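import Mathlib
import Cfsg.Agent.Lib.S2930.T3B
import Cfsg.Agent.Lib.S2930.T5
import Cfsg.Agent.Lib.S2930.T6
import Cfsg.Agent.Lib.S2930.T8a

set_option autoImplicit false
open Equiv Equiv.Perm MulAction
open scoped Pointwise

namespace Cfsg.Agent.S2930L

/-- T8: n = 3^a, a ≥ 3. -/
theorem forward_pow3 (n a : ℕ) (ha : 3 ≤ a) (hn : n = 3 ^ a)
    (R : Sylow 3 ↥(alternatingGroup (Fin n)))
    (htr : ∀ x y : Fin n, ∃ r ∈ (R : Subgroup ↥(alternatingGroup (Fin n))), r • x = y)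
    (M : Subgroup ↥(alternatingGroup (Fin n))) (hM : IsCoatom M)
    (hRM : (R : Subgroup ↥(alternatingGroup (Fin n))) ≤ M)
    (huniq : ∀ M' : Subgroup ↥(alternatingGroup (Fin n)), IsCoatom M' →
      (R : Subgroup ↥(alternatingGroup (Fin n))) ≤ M' → M' = M) : False := by
  have hn27 : 27 ≤ n := by
    rw [hn]
    calc 27 = 3 ^ 3 := by norm_num
      _ ≤ 3 ^ a := Nat.pow_le_pow_right (by norm_num) ha
  have hcard : Fintype.card (Fin n) = n := Fintype.card_fin n
  refine T8_forward_pow3_aux n a ha hn ?_ ?_ ?_ R htr M hM hRM huniq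
  · intro τ hτ3 hτ
    exact fpf3_centralizer_ne_top (by rw [hcard]; omega) τ hτ3 hτ
  · intro P hP htrP
    exact exists_third_of_transitive_three_group P hP (by rw [hcard]; omega) htrP
  · intro τ hτ3 hτ J hJ g₀ hg₀ h3c u hu hτu
    exact eq_top_of_fpf3 (by rw [hcard]; omega) τ hτ3 hτ J hJ g₀ hg₀ h3c u hu hτu

end Cfsg.Agent.S2930L
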