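import Mathlib
import Cfsg.Agent.Lib.S2930.N12
import Cfsg.Agent.Lib.S2930.T4
import Cfsg.Agent.Lib.S2930.T8

set_option autoImplicit false
open Equiv Equiv.Perm MulAction
open scoped Pointwise

namespace Cfsg.Agent.S2930L

/-- T9: assembly of the forward direction. -/
theorem forward_alt3 (n : ℕ) (hn : 5 ≤ n) (R : Sylow 3 ↥(alternatingGroup (Fin n)))
    (h : ∃! M : Subgroup ↥(alternatingGroup (Fin n)),
      IsCoatom M ∧ (R : Subgroup ↥(alternatingGroup (Fin n))) ≤ M) :
    n = 6 ∨ n = 9 ∨ ∃ a : ℕ, 2 ≤ a ∧ n = 3 ^ a + 1 := by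
  classical
  haveI : Fact (Nat.Prime 3) := ⟨by norm_num⟩
  obtain ⟨M, ⟨hM, hRM⟩, huniq'⟩ := h
  have huniq : ∀ M' : Subgroup ↥(alternatingGroup (Fin n)), IsCoatom M' →
      (R : Subgroup ↥(alternatingGroup (Fin n))) ≤ M' → M' = M :=
    fun M' h1 h2 => huniq' M' ⟨h1, h2⟩
  by_cases h3 : 3 ∣ n
  · by_cases h6 : n = 6
    · exact Or.inl h6
    have h9 : 9 ≤ n := by omega
    right
    -- R is transitive
    have htr : ∀ x y : Fin n, ∃ r ∈ (R : Subgroup ↥(alternatingGroup (Fin n))), r • x = y := by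
      intro x y
      by_contra hcon
      push Not at hcon
      set s : Set (Fin n) := {w | ∃ r ∈ (R : Subgroup ↥(alternatingGroup (Fin n))), r • x = w} with hs
      have hxs : x ∈ s := ⟨1, Subgroup.one_mem _, one_smul _ _⟩
      have hys : y ∈ sᶜ := by
        rintro ⟨r, hr, hrx⟩
        exact hcon r hr hrx
      have hinv : ∀ r ∈ (R : Subgroup ↥(alternatingGroup (Fin n))), r • s = s := by
        intro r hr
        ext w
        constructor
        · rintro ⟨v, ⟨r', hr', rfl⟩, rfl⟩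
          exact ⟨r * r', Subgroup.mul_mem _ hr hr', by rw [mul_smul]⟩
        · rintro ⟨r', hr', rfl⟩
          refine ⟨r⁻¹ • r' • x, ⟨r⁻¹ * r', Subgroup.mul_mem _ (Subgroup.inv_mem _ hr) hr', by
            rw [mul_smul]⟩, ?_⟩
          simp
      exact forward_intrans3 n h9 h3 R s ⟨x, hxs⟩ ⟨y, hys⟩ hinv M hM hRM huniq
    -- hence n is a power of 3
    have hne : Nonempty (Fin n) := ⟨⟨0, by omega⟩⟩
    obtain ⟨x⟩ := hne
    have horb : MulAction.orbit ↥(R : Subgroup ↥(alternatingGroup (Fin n))) x = Set.univ := by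
      ext y
      simp only [Set.mem_univ, iff_true]
      obtain ⟨r, hr, hrx⟩ := htr x y
      exact ⟨⟨r, hr⟩, hrx⟩
    obtain ⟨a, ha⟩ := IsPGroup.card_orbit (R.isPGroup') x
    rw [horb, Nat.card_coe_set_eq, Set.ncard_univ, Nat.card_eq_fintype_card, Fintype.card_fin] at ha
    have ha2 : 2 ≤ a := by
      by_contra hlt
      push Not at hlt
      interval_cases a <;> omega
    rcases ha2.lt_or_eq with h | h
    · exact (forward_pow3 n a h ha R htr M hM hRM huniq).elim
    · left
      rw [ha, ← h]; norm_num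
  · right; right
    exact forward_not_dvd n hn h3 R M hM hRM huniq

end Cfsg.Agent.S2930L
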