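import Mathlib
import Cfsg.Prelude.Def_LocalEven
import Cfsg.Agent.Lib.Helper7.SylowLib

/-!
S2930 piece U1 (helper2): in a 3-minimal group `X`, a normal simple subgroup `F` of order
divisible by 3 which is not a 3-group satisfies `F T = X` for every Sylow 3-subgroup `T`.
-/

set_option autoImplicit false
open Equiv Equiv.Perm MulAction
open scoped Pointwise

namespace Cfsg.Agent.S2930L

/-- U1 (Frattini). -/
theorem sup_sylow_eq_top {X : Type*} [Group X] [Finite X] (hX : Cfsg.IsPMinimal 3 X)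
    (F : Subgroup X) [F.Normal] (hFs : IsSimpleGroup ↥F) (h3 : 3 ∣ Nat.card ↥F)
    (hF3 : ¬ IsPGroup 3 ↥F) (T : Sylow 3 X) : F ⊔ (T : Subgroup X) = ⊤ := by
  have : Fact (Nat.Prime 3) := ⟨Nat.prime_three⟩
  by_contra hne
  obtain ⟨M, ⟨hM, hTM⟩, huniq⟩ := (hX T).2
  -- every proper subgroup containing `T` lies in `M`
  have hle : ∀ Y : Subgroup X, (T : Subgroup X) ≤ Y → Y ≠ ⊤ → Y ≤ M := by
    intro Y hTY hY
    rcases eq_top_or_exists_le_coatom Y with h | ⟨M', hM', hYM'⟩
    · exact absurd h hY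
    · have h1 : M' = M := huniq M' ⟨hM', hTY.trans hYM'⟩
      rw [← h1]; exact hYM'
  have hFM : F ≤ M := le_trans le_sup_left (hle _ le_sup_right hne)
  have hFtop : Subgroup.normalizer (F : Set X) = ⊤ :=
    Subgroup.normalizer_eq_top_iff.2 inferInstance
  -- `T ⊓ F` is a Sylow 3-subgroup of `F`
  have hsyl : Cfsg.Agent.Lib.Helper7.IsSylowIn 3 ((T : Subgroup X) ⊓ F) F :=
    (Cfsg.Agent.Lib.Helper7.IsSylowIn.of_sylow_top T).inf_normal F le_top (by rw [hFtop])
  obtain ⟨T₀, hT₀⟩ := hsyl.exists_sylow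
  have hfr := Sylow.normalizer_sup_eq_top T₀
  have hmap : (T₀ : Subgroup F).map F.subtype = (T : Subgroup X) ⊓ F := by
    rw [hT₀, Subgroup.subgroupOf_map_subtype, inf_assoc, inf_idem]
  rw [hmap] at hfr
  have hTn : (T : Subgroup X) ≤
      Subgroup.normalizer (((T : Subgroup X) ⊓ F : Subgroup X) : Set X) := by
    refine le_trans ?_ (Subgroup.inf_normalizer_le_normalizer_inf)
    exact le_inf Subgroup.le_normalizer (by rw [hFtop]; exact le_top)
  -- hence `T ⊓ F` is normal in `X`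
  have htop : Subgroup.normalizer (((T : Subgroup X) ⊓ F : Subgroup X) : Set X) = ⊤ := by
    by_contra hne'
    have hle' := hle _ hTn hne'
    apply hM.1
    rw [eq_top_iff, ← hfr]
    exact sup_le hle' hFM
  have hnorm : ((T : Subgroup X) ⊓ F).Normal := Subgroup.normalizer_eq_top_iff.1 htop
  -- so `(T ⊓ F).subgroupOf F` is a normal subgroup of the simple group `F`
  have hnorm' : (((T : Subgroup X) ⊓ F).subgroupOf F).Normal := hnorm.subgroupOf F
  rcases hnorm'.eq_bot_or_eq_top with hbot | htop'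
  · -- trivial Sylow 3-subgroup: contradiction with `3 ∣ |F|`
    have hT₀bot : (T₀ : Subgroup F) = ⊥ := by rw [hT₀]; exact hbot
    exact T₀.ne_bot_of_dvd_card h3 hT₀bot
  · -- `F` is a 3-group
    apply hF3
    have hT₀top : (T₀ : Subgroup F) = ⊤ := by rw [hT₀]; exact htop'
    have h1 : IsPGroup 3 ↥(T₀ : Subgroup F) := T₀.isPGroup'
    rw [hT₀top] at h1
    exact IsPGroup.of_surjective h1 (Subgroup.topEquiv (G := ↥F)).toMonoidHom
      (Subgroup.topEquiv (G := ↥F)).surjective

end Cfsg.Agent.S2930L
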