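import Mathlib

set_option autoImplicit false
open Equiv Equiv.Perm MulAction
open scoped Pointwise

namespace Cfsg.Agent.S2930L

/-- U2 (3-elements act as inner automorphisms, hence lie in F). -/
theorem mem_of_aut_inner {X : Type*} [Group X] [Finite X] (n : ℕ) (hn : 5 ≤ n)
    (F : Subgroup X) [F.Normal] (e : ↥F ≃* ↥(alternatingGroup (Fin n)))
    (hC : Subgroup.centralizer (F : Set X) ≤ F)
    (haut : ∀ (ψ : MulAut ↥(alternatingGroup (Fin n))) (k : ℕ), ψ ^ (3 ^ k) = 1 →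
      ∃ σ : Perm (Fin n), MulAut.conjNormal σ = ψ)
    (y : X) (k : ℕ) (hy : y ^ (3 ^ k) = 1) : y ∈ F := by
  classical
  let c : X →* MulAut ↥(alternatingGroup (Fin n)) :=
    (MulAut.congr e).toMonoidHom.comp MulAut.conjNormal
  have hc_apply : ∀ (g : X) (a : ↥(alternatingGroup (Fin n))),
      c g a = e (MulAut.conjNormal g (e.symm a)) := fun g a => rfl
  have hψ : (c y) ^ (3 ^ k) = 1 := by rw [← map_pow, hy, map_one]
  obtain ⟨σ, hσ⟩ := haut (c y) k hψ
  have hσ2 : σ ^ 2 ∈ alternatingGroup (Fin n) := by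
    rw [Perm.mem_alternatingGroup, map_pow, sq, Int.units_mul_self]
  let s : ↥(alternatingGroup (Fin n)) := ⟨σ ^ 2, hσ2⟩
  let f : ↥F := e.symm s
  have hcy2 : c (y ^ 2) = MulAut.conjNormal (σ ^ 2) := by
    rw [map_pow, map_pow, hσ]
  -- conjugation by y² on F agrees with conjugation by f
  have key : ∀ h : ↥F, y ^ 2 * (h : X) * (y ^ 2)⁻¹ = (f : X) * h * (f : X)⁻¹ := by
    intro h
    have h1 : c (y ^ 2) (e h) = s * e h * s⁻¹ := by
      rw [hcy2]
      apply Subtype.ext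
      rw [MulAut.conjNormal_apply]
      rfl
    rw [hc_apply, MulEquiv.symm_apply_apply] at h1
    have h2 : e (MulAut.conjNormal (y ^ 2) h) = e (f * h * f⁻¹) := by
      rw [h1, map_mul, map_mul, map_inv]
      show s * e h * s⁻¹ = e (e.symm s) * e h * (e (e.symm s))⁻¹
      rw [MulEquiv.apply_symm_apply]
    have h3 := e.injective h2
    have h4 := congrArg (Subtype.val) h3
    rw [MulAut.conjNormal_apply] at h4
    simpa using h4
  have hmem : (f : X)⁻¹ * y ^ 2 ∈ Subgroup.centralizer (F : Set X) := by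
    rw [Subgroup.mem_centralizer_iff]
    intro h hh
    have := key ⟨h, hh⟩
    simp only at this
    -- y² h y⁻² = f h f⁻¹  ⇒  h (f⁻¹ y²) = (f⁻¹ y²) h
    have e1 : y ^ 2 * h = (f : X) * h * (f : X)⁻¹ * y ^ 2 := by
      rw [← this]; group
    calc h * ((f : X)⁻¹ * y ^ 2) = (f : X)⁻¹ * ((f : X) * h * (f : X)⁻¹ * y ^ 2) := by group
      _ = (f : X)⁻¹ * (y ^ 2 * h) := by rw [e1]
      _ = (f : X)⁻¹ * y ^ 2 * h := by group
  have hy2 : y ^ 2 ∈ F := by
    have h1 := hC hmem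
    have h2 : y ^ 2 = (f : X) * ((f : X)⁻¹ * y ^ 2) := by group
    rw [h2]
    exact F.mul_mem f.2 h1
  -- y is a power of y²
  have hodd : Odd (3 ^ k) := Odd.pow (by decide)
  obtain ⟨m, hm⟩ := hodd
  have : y = (y ^ 2) ^ (m + 1) := by
    rw [← pow_mul]
    have : 2 * (m + 1) = 3 ^ k + 1 := by omega
    rw [this, pow_succ, hy, one_mul]
  rw [this]
  exact F.pow_mem hy2 _

end Cfsg.Agent.S2930L
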