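import Mathlib
import Cfsg.Agent.Lib.Lead.AutAlt
import Cfsg.Agent.Lib.Helper8.AltSixExtA

set_option autoImplicit false
set_option linter.unusedVariables false
set_option linter.style.haveILetI false

/-! S2930 piece U3: automorphisms of 3-power order of `A_n` (`n ≥ 5`, including `n = 6`) are
induced by permutations. -/

namespace Cfsg.Agent.S2930L

open Equiv Equiv.Perm

section Gen

variable {Ω : Type*} [DecidableEq Ω] [Fintype Ω]

/-- `ψ` maps three-cycles to three-cycles. -/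
def U3_Pres (ψ : MulAut (alternatingGroup Ω)) : Prop :=
  ∀ c : alternatingGroup Ω, (c : Perm Ω).IsThreeCycle →
    ((ψ c : alternatingGroup Ω) : Perm Ω).IsThreeCycle

/-- copy of `Lead.AutAlt.exists_fix` with the hypothesis that `ψ.symm` preserves three-cycles. -/
lemma U3_exists_fix (h4 : 4 ≤ Fintype.card Ω)
    (ψ : MulAut (alternatingGroup Ω)) (hp : U3_Pres ψ.symm) (x : Ω) :
    ∃ y : Ω, ∀ g : alternatingGroup Ω, (g : Perm Ω) x = x →
      ((ψ g : alternatingGroup Ω) : Perm Ω) y = y := by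
  classical
  let S : Subgroup (alternatingGroup Ω) :=
    (MulAction.stabilizer (Perm Ω) x).subgroupOf (alternatingGroup Ω)
  let G : Subgroup (Perm Ω) := S.map ((alternatingGroup Ω).subtype.comp ψ.toMonoidHom)
  have memS : ∀ g : alternatingGroup Ω, g ∈ S ↔ (g : Perm Ω) x = x := fun g => by
    show (g : Perm Ω) ∈ MulAction.stabilizer (Perm Ω) x ↔ _
    rw [MulAction.mem_stabilizer_iff, Perm.smul_def]
  have memG : ∀ p : Perm Ω, p ∈ G ↔ ∃ g : alternatingGroup Ω, (g : Perm Ω) x = x ∧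
      ((ψ g : alternatingGroup Ω) : Perm Ω) = p := by
    intro p
    show p ∈ S.map _ ↔ _
    rw [Subgroup.mem_map]
    constructor
    · rintro ⟨g, hg, rfl⟩; exact ⟨g, (memS g).1 hg, rfl⟩
    · rintro ⟨g, hg, rfl⟩; exact ⟨g, (memS g).2 hg, rfl⟩
  let Ψ : Perm Ω → Perm Ω := fun d =>
    if h : d ∈ alternatingGroup Ω then ((ψ ⟨d, h⟩ : alternatingGroup Ω) : Perm Ω) else 1
  let T : Finset (Perm Ω) := Finset.univ.filter (fun d : Perm Ω => d.IsThreeCycle ∧ d x ≠ x)
  have hT : T.card ≤ (Fintype.card Ω - 1) * (Fintype.card Ω - 2) :=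
    Cfsg.Agent.Lead.AutAlt.card_moving_le x T (fun c hc => (Finset.mem_filter.1 hc).2)
  let M : Finset (Perm Ω) := T.image Ψ
  have hMc : M.card ≤ (Fintype.card Ω - 1) * (Fintype.card Ω - 2) :=
    le_trans Finset.card_image_le hT
  have hM : ∀ c : Perm Ω, c.IsThreeCycle → c ∉ G → c ∈ M := by
    intro c hc3 hcG
    have hcA : c ∈ alternatingGroup Ω := hc3.mem_alternatingGroup
    have hd3 : ((ψ.symm ⟨c, hcA⟩ : alternatingGroup Ω) : Perm Ω).IsThreeCycle :=
      hp ⟨c, hcA⟩ hc3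
    have hdx : ((ψ.symm ⟨c, hcA⟩ : alternatingGroup Ω) : Perm Ω) x ≠ x := by
      intro h
      apply hcG
      rw [memG]
      exact ⟨ψ.symm ⟨c, hcA⟩, h, by rw [MulEquiv.apply_symm_apply]⟩
    rw [Finset.mem_image]
    refine ⟨((ψ.symm ⟨c, hcA⟩ : alternatingGroup Ω) : Perm Ω), ?_, ?_⟩
    · rw [Finset.mem_filter]; exact ⟨Finset.mem_univ _, hd3, hdx⟩
    · show (if h : ((ψ.symm ⟨c, hcA⟩ : alternatingGroup Ω) : Perm Ω) ∈ alternatingGroup Ω then
        ((ψ ⟨((ψ.symm ⟨c, hcA⟩ : alternatingGroup Ω) : Perm Ω), h⟩ : alternatingGroup Ω) : Perm Ω)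
        else 1) = c
      rw [dif_pos (ψ.symm ⟨c, hcA⟩).2]
      have : (⟨((ψ.symm ⟨c, hcA⟩ : alternatingGroup Ω) : Perm Ω), (ψ.symm ⟨c, hcA⟩).2⟩ :
          alternatingGroup Ω) = ψ.symm ⟨c, hcA⟩ := rfl
      rw [this, MulEquiv.apply_symm_apply]
  have hG : ¬ alternatingGroup Ω ≤ G := by
    intro hle
    obtain ⟨u, hu⟩ : ∃ u : Ω, u ≠ x := by
      have : 1 < Fintype.card Ω := by omega
      obtain ⟨a, b, hab⟩ := Fintype.one_lt_card_iff.1 this
      by_cases ha : a = x
      · exact ⟨b, fun h => hab (ha.trans h.symm)⟩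
      · exact ⟨a, ha⟩
    obtain ⟨d₀, hd3, -, hdx⟩ := Cfsg.Agent.Lead.AutAlt.exists_sep h4 hu
    have hdA : d₀ ∈ alternatingGroup Ω := hd3.mem_alternatingGroup
    have h1 : ((ψ ⟨d₀, hdA⟩ : alternatingGroup Ω) : Perm Ω) ∈ G := hle (ψ ⟨d₀, hdA⟩).2
    rw [memG] at h1
    obtain ⟨g, hgx, hg⟩ := h1
    have h2 : g = ⟨d₀, hdA⟩ := ψ.injective (Subtype.ext hg)
    rw [h2] at hgx
    exact hdx hgx
  obtain ⟨z, hz⟩ := Cfsg.Agent.Lead.AutAlt.exists_fixed_of_few h4 G hG M hM hMc
  exact ⟨z, fun g hg => hz _ ((memG _).2 ⟨g, hg, rfl⟩)⟩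

/-- copy of `Lead.AutAlt.surj` with the hypotheses that `φ` and `φ.symm` preserve
three-cycles. -/
theorem U3_surj (h4 : 4 ≤ Fintype.card Ω)
    (φ : MulAut (alternatingGroup Ω)) (hp1 : U3_Pres φ) (hp2 : U3_Pres φ.symm) :
    ∃ σ : Perm Ω, MulAut.conjNormal σ = φ := by
  classical
  choose σ hσ using U3_exists_fix h4 φ hp2
  have hp1' : U3_Pres φ.symm.symm := hp1
  choose τ hτ using U3_exists_fix h4 φ.symm hp1'
  have hτσ : ∀ x, τ (σ x) = x := by
    intro x
    by_contra hne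
    obtain ⟨c, hcx, hcu⟩ := Cfsg.Agent.Lead.AutAlt.exists_sepA h4 (Ne.symm hne)
    have h1 := hσ x c hcx
    have h2 := hτ (σ x) (φ c) h1
    rw [MulEquiv.symm_apply_apply] at h2
    exact hcu h2
  have hστ : ∀ y, σ (τ y) = y := by
    intro y
    by_contra hne
    obtain ⟨c, hcy, hcu⟩ := Cfsg.Agent.Lead.AutAlt.exists_sepA h4 (Ne.symm hne)
    have h1 := hτ y c hcy
    have h2 := hσ (τ y) (φ.symm c) h1
    rw [MulEquiv.apply_symm_apply] at h2
    exact hcu h2
  let σe : Perm Ω := ⟨σ, τ, hτσ, hστ⟩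
  have hiff : ∀ x (k : alternatingGroup Ω), (k : Perm Ω) x = x ↔
      ((φ k : alternatingGroup Ω) : Perm Ω) (σ x) = σ x := by
    intro x k
    constructor
    · exact hσ x k
    · intro h
      have := hτ (σ x) (φ k) h
      rwa [MulEquiv.symm_apply_apply, hτσ] at this
  have hcomm : ∀ (g : alternatingGroup Ω) (x : Ω),
      ((φ g : alternatingGroup Ω) : Perm Ω) (σ x) = σ ((g : Perm Ω) x) := by
    intro g x
    by_contra hne
    obtain ⟨p, hpu, hpv⟩ := Cfsg.Agent.Lead.AutAlt.exists_sepA h4 hne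
    have hpk : φ (φ.symm p) = p := MulEquiv.apply_symm_apply φ p
    have h1 : ((φ (g⁻¹ * φ.symm p * g) : alternatingGroup Ω) : Perm Ω) (σ x) = σ x := by
      rw [map_mul, map_mul, hpk, map_inv]
      show ((φ g : alternatingGroup Ω) : Perm Ω)⁻¹
        ((p : Perm Ω) (((φ g : alternatingGroup Ω) : Perm Ω) (σ x))) = σ x
      rw [hpu]
      simp
    have h2 := (hiff x (g⁻¹ * φ.symm p * g)).2 h1
    have h3 : ((φ.symm p : alternatingGroup Ω) : Perm Ω) ((g : Perm Ω) x) = (g : Perm Ω) x := by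
      have e : ((g⁻¹ * φ.symm p * g : alternatingGroup Ω) : Perm Ω) x =
          (g : Perm Ω)⁻¹ (((φ.symm p : alternatingGroup Ω) : Perm Ω) ((g : Perm Ω) x)) := rfl
      rw [e] at h2
      have := congrArg (g : Perm Ω) h2
      simpa using this
    have h4' := (hiff ((g : Perm Ω) x) (φ.symm p)).1 h3
    rw [hpk] at h4'
    exact hpv h4'
  refine ⟨σe, ?_⟩
  apply MulEquiv.ext
  intro g
  apply Subtype.ext
  apply Perm.ext
  intro y
  rw [MulAut.conjNormal_apply]
  show σ ((g : Perm Ω) (τ y)) = ((φ g : alternatingGroup Ω) : Perm Ω) y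
  rw [← hcomm g (τ y), hστ]

end Gen

section Six

open Cfsg.Agent.Lib.Helper8.AltSixExt

/-- order three, support of size three -/
def U3_T3 (g : alternatingGroup (Fin 6)) : Prop := (g : Perm (Fin 6)).support.card = 3

/-- order three, support of size six -/
def U3_T6 (g : alternatingGroup (Fin 6)) : Prop :=
  g ^ 3 = 1 ∧ (g : Perm (Fin 6)).support.card = 6

lemma U3_T3_pow {g : alternatingGroup (Fin 6)} (h : U3_T3 g) : g ^ 3 = 1 ∧ g ≠ 1 := by
  constructor
  · have h' := (card_support_eq_three_iff.mp h).orderOf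
    apply Subtype.ext
    rw [Subgroup.coe_pow, Subgroup.coe_one, ← h']
    exact pow_orderOf_eq_one _
  · rintro rfl
    simp [U3_T3] at h

lemma U3_T6_ne {g : alternatingGroup (Fin 6)} (h : U3_T6 g) : g ≠ 1 := by
  rintro rfl
  have := h.2
  simp at this

lemma U3_dich (g : alternatingGroup (Fin 6)) (h3 : g ^ 3 = 1) (h1 : g ≠ 1) :
    U3_T3 g ∨ U3_T6 g := by
  rcases ord3_dichotomy g h3 h1 with h | h
  · exact Or.inl h
  · exact Or.inr ⟨h3, h⟩

lemma U3_supp_conj (φ : MulAut (alternatingGroup (Fin 6))) (g c : alternatingGroup (Fin 6)) :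
    ((φ (g * c * g⁻¹) : alternatingGroup (Fin 6)) : Perm (Fin 6)).support.card =
      ((φ c : alternatingGroup (Fin 6)) : Perm (Fin 6)).support.card := by
  rw [map_mul, map_mul, map_inv, Subgroup.coe_mul, Subgroup.coe_mul, Subgroup.coe_inv,
    card_support_conj]

lemma U3_T3_conj {c d : alternatingGroup (Fin 6)} (hc : U3_T3 c) (hd : U3_T3 d) :
    ∃ g : alternatingGroup (Fin 6), d = g * c * g⁻¹ := by
  have hcj : IsConj c d :=
    alternatingGroup.isThreeCycle_isConj (by simp) (card_support_eq_three_iff.mp hc)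
      (card_support_eq_three_iff.mp hd)
  obtain ⟨g, hg⟩ := isConj_iff.mp hcj
  exact ⟨g, hg.symm⟩

lemma U3_T6_conj {c d : alternatingGroup (Fin 6)} (hc : U3_T6 c) (hd : U3_T6 d) :
    ∃ g : alternatingGroup (Fin 6), d = g * c * g⁻¹ := by
  obtain ⟨g, hg⟩ := dbl_conj c hc.1 hc.2
  obtain ⟨g', hg'⟩ := dbl_conj d hd.1 hd.2
  refine ⟨g' * g⁻¹, ?_⟩
  apply Subtype.ext
  simp only [Subgroup.coe_mul, Subgroup.coe_inv, mul_inv_rev, inv_inv] at hg hg' ⊢
  rw [hg', hg]
  group

lemma U3_image_ord (φ : MulAut (alternatingGroup (Fin 6))) (g : alternatingGroup (Fin 6))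
    (h3 : g ^ 3 = 1) (h1 : g ≠ 1) : U3_T3 (φ g) ∨ U3_T6 (φ g) := by
  apply U3_dich
  · rw [← map_pow, h3, map_one]
  · intro h
    exact h1 (φ.injective (h.trans (map_one φ).symm))

/-- if one three-cycle is mapped to a three-cycle then all are. -/
lemma U3_all_T3 (φ : MulAut (alternatingGroup (Fin 6))) {c : alternatingGroup (Fin 6)}
    (hc : U3_T3 c) (hφc : U3_T3 (φ c)) : ∀ d, U3_T3 d → U3_T3 (φ d) := by
  intro d hd
  obtain ⟨g, rfl⟩ := U3_T3_conj hc hd
  show ((φ (g * c * g⁻¹) : alternatingGroup (Fin 6)) : Perm (Fin 6)).support.card = 3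
  rw [U3_supp_conj]
  exact hφc

/-- if one three-cycle is mapped to a double three-cycle then all are. -/
lemma U3_all_T3_T6 (φ : MulAut (alternatingGroup (Fin 6))) {c : alternatingGroup (Fin 6)}
    (hc : U3_T3 c) (hφc : U3_T6 (φ c)) : ∀ d, U3_T3 d → U3_T6 (φ d) := by
  intro d hd
  obtain ⟨g, rfl⟩ := U3_T3_conj hc hd
  refine ⟨?_, ?_⟩
  · have := (U3_T3_pow hd).1
    rw [← map_pow, this, map_one]
  · rw [U3_supp_conj]
    exact hφc.2

/-- if one double three-cycle is mapped to a double three-cycle then all are. -/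
lemma U3_all_T6_T6 (φ : MulAut (alternatingGroup (Fin 6))) {c : alternatingGroup (Fin 6)}
    (hc : U3_T6 c) (hφc : U3_T6 (φ c)) : ∀ d, U3_T6 d → U3_T6 (φ d) := by
  intro d hd
  obtain ⟨g, rfl⟩ := U3_T6_conj hc hd
  refine ⟨?_, ?_⟩
  · rw [← map_pow, hd.1, map_one]
  · rw [U3_supp_conj]
    exact hφc.2

/-- if one double three-cycle is mapped to a three-cycle then all are. -/
lemma U3_all_T6_T3 (φ : MulAut (alternatingGroup (Fin 6))) {c : alternatingGroup (Fin 6)}
    (hc : U3_T6 c) (hφc : U3_T3 (φ c)) : ∀ d, U3_T6 d → U3_T3 (φ d) := by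
  intro d hd
  obtain ⟨g, rfl⟩ := U3_T6_conj hc hd
  show ((φ (g * c * g⁻¹) : alternatingGroup (Fin 6)) : Perm (Fin 6)).support.card = 3
  rw [U3_supp_conj]
  exact hφc

lemma U3_T3_not_T6 {g : alternatingGroup (Fin 6)} (h : U3_T3 g) : ¬ U3_T6 g := by
  intro h'
  have h1 : (g : Perm (Fin 6)).support.card = 3 := h
  have := h'.2
  omega

/-- the three-cycle `(0 1 2)` as an element of `A₆`. -/
def U3_c0 : alternatingGroup (Fin 6) :=
  ⟨gc 2, (card_support_eq_three_iff.mp (gc_support 2 (by decide))).mem_alternatingGroup⟩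

lemma U3_c0_T3 : U3_T3 U3_c0 := gc_support 2 (by decide)

/-- a double three-cycle as an element of `A₆`. -/
def U3_r0 : alternatingGroup (Fin 6) :=
  ⟨rho0, by rw [Equiv.Perm.mem_alternatingGroup]; decide⟩

lemma U3_r0_T6 : U3_T6 U3_r0 := by
  refine ⟨?_, ?_⟩
  · apply Subtype.ext
    show rho0 ^ 3 = 1
    decide
  · show rho0.support.card = 6
    decide

/-- an automorphism of `A₆` either preserves the two classes of elements of order three or
swaps them. -/
lemma U3_pres_or_swap (φ : MulAut (alternatingGroup (Fin 6))) :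
    ((∀ d, U3_T3 d → U3_T3 (φ d)) ∧ (∀ d, U3_T6 d → U3_T6 (φ d))) ∨
    ((∀ d, U3_T3 d → U3_T6 (φ d)) ∧ (∀ d, U3_T6 d → U3_T3 (φ d))) := by
  have hc0 := U3_T3_pow U3_c0_T3
  have hr0 := U3_r0_T6
  -- the preimage of c0 and r0
  have hpre : ∀ t : alternatingGroup (Fin 6), t ^ 3 = 1 → t ≠ 1 →
      U3_T3 (φ.symm t) ∨ U3_T6 (φ.symm t) := fun t h3 h1 => U3_image_ord φ.symm t h3 h1
  rcases U3_image_ord φ U3_c0 hc0.1 hc0.2 with h33 | h36
  · rcases U3_image_ord φ U3_r0 hr0.1 (U3_T6_ne hr0) with h63 | h66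
    · -- everything maps into T3: r0 has no preimage
      exfalso
      have hall3 := U3_all_T3 φ U3_c0_T3 h33
      have hall6 := U3_all_T6_T3 φ hr0 h63
      rcases hpre U3_r0 hr0.1 (U3_T6_ne hr0) with h | h
      · have := hall3 _ h
        rw [MulEquiv.apply_symm_apply] at this
        exact U3_T3_not_T6 this hr0
      · have := hall6 _ h
        rw [MulEquiv.apply_symm_apply] at this
        exact U3_T3_not_T6 this hr0
    · exact Or.inl ⟨U3_all_T3 φ U3_c0_T3 h33, U3_all_T6_T6 φ hr0 h66⟩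
  · rcases U3_image_ord φ U3_r0 hr0.1 (U3_T6_ne hr0) with h63 | h66
    · exact Or.inr ⟨U3_all_T3_T6 φ U3_c0_T3 h36, U3_all_T6_T3 φ hr0 h63⟩
    · -- everything maps into T6: c0 has no preimage
      exfalso
      have hall3 := U3_all_T3_T6 φ U3_c0_T3 h36
      have hall6 := U3_all_T6_T6 φ hr0 h66
      rcases hpre U3_c0 hc0.1 hc0.2 with h | h
      · have := hall3 _ h
        rw [MulEquiv.apply_symm_apply] at this
        exact U3_T3_not_T6 U3_c0_T3 this
      · have := hall6 _ h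
        rw [MulEquiv.apply_symm_apply] at this
        exact U3_T3_not_T6 U3_c0_T3 this

/-- an automorphism of `A₆` of odd order preserves three-cycles. -/
lemma U3_pres_of_odd (φ : MulAut (alternatingGroup (Fin 6))) (m : ℕ) (hm : Odd m)
    (hφ : φ ^ m = 1) : U3_Pres φ := by
  rcases U3_pres_or_swap φ with h | h
  · intro c hc
    exact card_support_eq_three_iff.mp (h.1 c (card_support_eq_three_iff.mpr hc))
  · exfalso
    have key : ∀ j : ℕ, (Even j → U3_T3 ((φ ^ j) U3_c0)) ∧ (Odd j → U3_T6 ((φ ^ j) U3_c0)) := by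
      intro j
      induction j with
      | zero =>
        refine ⟨fun _ => ?_, fun h0 => ?_⟩
        · rw [pow_zero]; exact U3_c0_T3
        · exact absurd h0 (by decide)
      | succ j ih =>
        have e : (φ ^ (j + 1)) U3_c0 = φ ((φ ^ j) U3_c0) := by
          rw [pow_succ']; rfl
        refine ⟨fun he => ?_, fun ho => ?_⟩
        · rw [e]
          have hj : Odd j := by
            rcases Nat.even_or_odd j with h' | h'
            · exact absurd he (by rw [Nat.even_add_one]; exact not_not.2 h')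
            · exact h'
          exact h.2 _ (ih.2 hj)
        · rw [e]
          have hj : Even j := by
            rcases Nat.even_or_odd j with h' | h'
            · exact h'
            · exact absurd ho (by rw [Nat.odd_add_one]; exact not_not.2 h')
          exact h.1 _ (ih.1 hj)
    have := (key m).2 hm
    rw [hφ] at this
    exact U3_T3_not_T6 U3_c0_T3 this

end Six

/-- U3 (automorphisms of 3-power order of A_n, n ≥ 5 incl. n = 6, are induced by S_n). -/
theorem aut_three_power_inner (n : ℕ) (hn : 5 ≤ n) (ψ : MulAut ↥(alternatingGroup (Fin n)))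
    (k : ℕ) (hψ : ψ ^ (3 ^ k) = 1) : ∃ σ : Perm (Fin n), MulAut.conjNormal σ = ψ := by
  by_cases h6 : n = 6
  · subst h6
    have hodd : Odd (3 ^ k) := Odd.pow (by decide)
    have hp1 : U3_Pres ψ := U3_pres_of_odd ψ (3 ^ k) hodd hψ
    have hψ' : ψ⁻¹ ^ (3 ^ k) = 1 := by rw [inv_pow, hψ, inv_one]
    have hp2 : U3_Pres ψ.symm := U3_pres_of_odd ψ⁻¹ (3 ^ k) hodd hψ'
    exact U3_surj (by simp) ψ hp1 hp2
  · exact Cfsg.Agent.Lead.AutAlt.surj (by simp; omega) (by simp; exact h6) ψ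

end Cfsg.Agent.S2930L
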